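import Mathlib
import Cfsg.Prelude.Def_Local

/-!
# Schmidt-type `p`-groups (helper97)

The structure of the normal Sylow `p`-subgroup of a minimal non-nilpotent group, in the form
needed to prove that a `p`-soluble group with such a Sylow `p`-subgroup has `p`-length one.
-/

set_option autoImplicit false

namespace Cfsg.Agent.Lib.Helper97.PL

/-- `P / Z(P)` is generated by two elements. -/
def TwoGenModCenter (P : Type*) [Group P] : Prop :=
  ∃ a b : P, ∀ g : P, ∃ i j : ℕ, ∃ z ∈ Subgroup.center P, g = a ^ i * b ^ j * z

/-- The structure of a non-abelian normal Sylow `p`-subgroup of a minimal non-nilpotent group: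
class two with elementary abelian central quotient, the Camina property (every non-central
element has all central elements as commutators), and two restrictions for the primes 2, 3. -/
def SchmidtSpecial (p : ℕ) (P : Type*) [Group P] : Prop :=
  (∀ a b : P, a * b * a⁻¹ * b⁻¹ ∈ Subgroup.center P) ∧
  (∀ a : P, a ^ p ∈ Subgroup.center P) ∧
  (∀ g : P, g ∉ Subgroup.center P → ∀ z ∈ Subgroup.center P, ∃ s : P, g * s * g⁻¹ * s⁻¹ = z) ∧
  (p = 3 → ¬ TwoGenModCenter P) ∧
  (p = 2 → TwoGenModCenter P → ∀ g : P, g ^ 2 = 1 → g ∈ Subgroup.center P)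

/-- Abelian, or of the special Schmidt form. -/
def SchmidtType (p : ℕ) (P : Type*) [Group P] : Prop :=
  (∀ a b : P, a * b = b * a) ∨ SchmidtSpecial p P

theorem TwoGenModCenter.of_mulEquiv {P P' : Type*} [Group P] [Group P'] (e : P ≃* P')
    (h : TwoGenModCenter P) : TwoGenModCenter P' := by
  obtain ⟨a, b, hab⟩ := h
  refine ⟨e a, e b, fun g => ?_⟩
  obtain ⟨i, j, z, hz, hg⟩ := hab (e.symm g)
  refine ⟨i, j, e z, ?_, ?_⟩
  · rw [Subgroup.mem_center_iff] at hz ⊢
    intro y
    have := congrArg e (hz (e.symm y))
    simpa using this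
  · have := congrArg e hg
    simpa using this

theorem mem_center_of_mulEquiv {P P' : Type*} [Group P] [Group P'] (e : P ≃* P') {z : P} :
    e z ∈ Subgroup.center P' ↔ z ∈ Subgroup.center P := by
  rw [Subgroup.mem_center_iff, Subgroup.mem_center_iff]
  constructor
  · intro h y
    apply e.injective
    have := h (e y)
    simpa using this
  · intro h y
    have := congrArg e (h (e.symm y))
    simpa using this

theorem SchmidtSpecial.of_mulEquiv {P P' : Type*} [Group P] [Group P'] (e : P ≃* P') {p : ℕ}
    (h : SchmidtSpecial p P) : SchmidtSpecial p P' := by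
  obtain ⟨h1, h2, h3, h4, h5⟩ := h
  refine ⟨?_, ?_, ?_, ?_, ?_⟩
  · intro a b
    have := (mem_center_of_mulEquiv e).2 (h1 (e.symm a) (e.symm b))
    simpa using this
  · intro a
    have := (mem_center_of_mulEquiv e).2 (h2 (e.symm a))
    simpa using this
  · intro g hg z hz
    have hg' : e.symm g ∉ Subgroup.center P := by
      intro hc
      apply hg
      have := (mem_center_of_mulEquiv e).2 hc
      simpa using this
    have hz' : e.symm z ∈ Subgroup.center P := by
      rw [← mem_center_of_mulEquiv e]
      simpa using hz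
    obtain ⟨s, hs⟩ := h3 (e.symm g) hg' (e.symm z) hz'
    refine ⟨e s, ?_⟩
    have := congrArg e hs
    simpa using this
  · intro hp htwo
    exact h4 hp (htwo.of_mulEquiv e.symm)
  · intro hp htwo g hg
    have hg' : (e.symm g) ^ 2 = 1 := by
      rw [← map_pow, hg, map_one]
    have := (mem_center_of_mulEquiv e).2 (h5 hp (htwo.of_mulEquiv e.symm) (e.symm g) hg')
    simpa using this

theorem SchmidtType.of_mulEquiv {P P' : Type*} [Group P] [Group P'] (e : P ≃* P') {p : ℕ}
    (h : SchmidtType p P) : SchmidtType p P' := by
  rcases h with h | h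
  · left
    intro a b
    have := congrArg e (h (e.symm a) (e.symm b))
    simpa using this
  · right
    exact h.of_mulEquiv e

end Cfsg.Agent.Lib.Helper97.PL
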