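import Mathlib
import Cfsg.Agent.Lib.Helper48.Generation

/-!
# A module lemma for Camina-type actions (helper97)

`Γ` acts on a finite abelian `p`-group `A`; `U ≤ Γ` is an elementary abelian `p`-subgroup acting
faithfully with `[A, U] ≤ Z ≤ C_A(U)` and the Camina property `[w, U] = Z` for `w ∉ Z`.
If `U` normalizes a `p'`-subgroup `K` on which it acts non-trivially (modulo the kernel of the
action), then `U` is cyclic.
-/

set_option autoImplicit false

namespace Cfsg.Agent.Lib.Helper97.PL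

section avg

variable {Γ : Type*} [Group Γ] {A : Type*} [CommGroup A]

/-- The fixed points of the subgroup `D` on `A`. -/
def fixOf (ρ : Γ →* MulAut A) (D : Subgroup Γ) : Subgroup A where
  carrier := {w | ∀ d ∈ D, ρ d w = w}
  mul_mem' := by
    intro a b ha hb d hd
    rw [map_mul, ha d hd, hb d hd]
  one_mem' := by
    intro d _
    rw [map_one]
  inv_mem' := by
    intro a ha d hd
    rw [map_inv, ha d hd]

theorem mem_fixOf {ρ : Γ →* MulAut A} {D : Subgroup Γ} {w : A} :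
    w ∈ fixOf ρ D ↔ ∀ d ∈ D, ρ d w = w := Iff.rfl

/-- The commutator `[A, D]`. -/
def commOf (ρ : Γ →* MulAut A) (D : Subgroup Γ) : Subgroup A :=
  Subgroup.closure {w | ∃ d ∈ D, ∃ v : A, w = ρ d v * v⁻¹}

theorem comm_mem_commOf (ρ : Γ →* MulAut A) {D : Subgroup Γ} {d : Γ} (hd : d ∈ D) (v : A) :
    ρ d v * v⁻¹ ∈ commOf ρ D :=
  Subgroup.subset_closure ⟨d, hd, v, rfl⟩

/-- The norm (averaging) endomorphism of `A` attached to a finite subgroup `D`. -/
noncomputable def normHom (ρ : Γ →* MulAut A) (D : Subgroup Γ) [Fintype D] : A →* A :=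
  ∏ d : D, ((ρ (d : Γ) : MulAut A) : A ≃* A).toMonoidHom

theorem normHom_apply (ρ : Γ →* MulAut A) (D : Subgroup Γ) [Fintype D] (w : A) :
    normHom ρ D w = ∏ d : D, ρ (d : Γ) w := by
  unfold normHom
  rw [MonoidHom.finsetProd_apply]
  rfl

theorem normHom_mem_fixOf (ρ : Γ →* MulAut A) (D : Subgroup Γ) [Fintype D] (w : A) :
    normHom ρ D w ∈ fixOf ρ D := by
  intro d' hd'
  rw [normHom_apply, map_prod]
  refine Fintype.prod_equiv (Equiv.mulLeft (⟨d', hd'⟩ : D)) _ _ (fun d => ?_)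
  show ρ d' (ρ (d : Γ) w) = ρ ((⟨d', hd'⟩ * d : D) : Γ) w
  rw [Subgroup.coe_mul, map_mul]
  rfl

theorem normHom_of_mem_fixOf (ρ : Γ →* MulAut A) (D : Subgroup Γ) [Fintype D] {w : A}
    (hw : w ∈ fixOf ρ D) : normHom ρ D w = w ^ Nat.card D := by
  rw [normHom_apply]
  have : ∀ d : D, ρ (d : Γ) w = w := fun d => hw d d.2
  simp_rw [this]
  rw [Finset.prod_const, Finset.card_univ, Nat.card_eq_fintype_card]

theorem normHom_smul (ρ : Γ →* MulAut A) (D : Subgroup Γ) [Fintype D] {d' : Γ} (hd' : d' ∈ D)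
    (v : A) : normHom ρ D (ρ d' v) = normHom ρ D v := by
  rw [normHom_apply, normHom_apply]
  refine Fintype.prod_equiv (Equiv.mulRight (⟨d', hd'⟩ : D)) _ _ (fun d => ?_)
  show ρ (d : Γ) (ρ d' v) = ρ ((d * ⟨d', hd'⟩ : D) : Γ) v
  rw [Subgroup.coe_mul, map_mul]
  rfl

theorem commOf_le_ker_normHom (ρ : Γ →* MulAut A) (D : Subgroup Γ) [Fintype D] :
    commOf ρ D ≤ (normHom ρ D).ker := by
  unfold commOf
  rw [Subgroup.closure_le]
  rintro w ⟨d, hd, v, rfl⟩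
  show normHom ρ D (ρ d v * v⁻¹) = 1
  rw [map_mul, map_inv, normHom_smul ρ D hd, mul_inv_cancel]

theorem fixOf_inf_commOf [Finite A] (ρ : Γ →* MulAut A) (D : Subgroup Γ) [Finite D]
    (hcop : (Nat.card D).Coprime (Nat.card A)) : fixOf ρ D ⊓ commOf ρ D = ⊥ := by
  classical
  let _ : Fintype D := Fintype.ofFinite D
  rw [eq_bot_iff]
  rintro w ⟨h1, h2⟩
  rw [Subgroup.mem_bot]
  have h3 : normHom ρ D w = 1 := commOf_le_ker_normHom ρ D h2
  rw [normHom_of_mem_fixOf ρ D h1] at h3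
  have h4 : orderOf w ∣ Nat.card D := orderOf_dvd_of_pow_eq_one h3
  have h5 : orderOf w ∣ Nat.card A := orderOf_dvd_natCard w
  exact orderOf_eq_one_iff.1 (Nat.eq_one_of_dvd_coprimes hcop h4 h5)

theorem fixOf_sup_commOf [Finite A] (ρ : Γ →* MulAut A) (D : Subgroup Γ) [Finite D]
    (hcop : (Nat.card D).Coprime (Nat.card A)) : fixOf ρ D ⊔ commOf ρ D = ⊤ := by
  classical
  let _ : Fintype D := Fintype.ofFinite D
  rw [eq_top_iff]
  intro w _
  set K : Subgroup A := fixOf ρ D ⊔ commOf ρ D with hK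
  -- `w ^ n ∈ K`
  have h1 : w ^ Nat.card D ∈ K := by
    have h2 : w ^ Nat.card D = normHom ρ D w * ∏ d : D, (ρ (d : Γ) w * w⁻¹)⁻¹ := by
      rw [normHom_apply, ← Finset.prod_mul_distrib]
      have : ∀ d : D, ρ (d : Γ) w * (ρ (d : Γ) w * w⁻¹)⁻¹ = w := by
        intro d
        rw [mul_inv_rev, inv_inv, mul_comm w, mul_inv_cancel_left]
      simp_rw [this]
      rw [Finset.prod_const, Finset.card_univ, Nat.card_eq_fintype_card]
    rw [h2]
    refine K.mul_mem (le_sup_left (a := fixOf ρ D) (normHom_mem_fixOf ρ D w)) ?_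
    refine Subgroup.prod_mem _ (fun d _ => K.inv_mem ?_)
    exact le_sup_right (a := fixOf ρ D) (comm_mem_commOf ρ d.2 w)
  -- coprime powers
  have hcopK : (Nat.card K).Coprime (Nat.card D) :=
    (Nat.Coprime.coprime_dvd_right (Subgroup.card_subgroup_dvd_card K) hcop).symm
  obtain ⟨k, hk⟩ := (powCoprime hcopK).surjective ⟨w ^ Nat.card D, h1⟩
  have hk' : (k : A) ^ Nat.card D = w ^ Nat.card D := by
    have := congrArg Subtype.val hk
    simpa [powCoprime] using this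
  have hinj : Function.Injective (fun a : A => a ^ Nat.card D) :=
    (powCoprime hcop.symm).injective
  have : (k : A) = w := hinj hk'
  rw [← this]
  exact k.2

end avg

/-- **Camina actions**: the acting elementary abelian group is cyclic. -/
theorem cyclic_of_camina_action {Γ : Type*} [Group Γ] [Finite Γ] {A : Type*} [CommGroup A]
    [Finite A] {p : ℕ} [Fact p.Prime] (ρ : Γ →* MulAut A) (hA : IsPGroup p A)
    (U K : Subgroup Γ) (Z : Subgroup A)
    (hUc : ∀ x ∈ U, ∀ y ∈ U, x * y = y * x) (hUe : ∀ x ∈ U, x ^ p = 1)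
    (hK : ¬ p ∣ Nat.card K) (hUK : U ≤ Subgroup.normalizer (K : Set Γ))
    (h1 : ∀ s ∈ U, ∀ w : A, ρ s w * w⁻¹ ∈ Z)
    (h2 : ∀ s ∈ U, ∀ z ∈ Z, ρ s z = z)
    (h3 : ∀ w : A, w ∉ Z → ∀ z ∈ Z, ∃ s ∈ U, ρ s w * w⁻¹ = z)
    (h4 : Z ≠ ⊥)
    (h5 : ∀ s ∈ U, ρ s = 1 → s = 1)
    (h6 : ∃ k ∈ K, ∃ t ∈ U, ρ (k * t * k⁻¹ * t⁻¹) ≠ 1) :
    IsCyclic U := by
  have hp : p.Prime := Fact.out
  have hρmul : ∀ (a b : Γ) (w : A), ρ (a * b) w = ρ a (ρ b w) := fun a b w => by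
    rw [MonoidHom.map_mul]; rfl
  have hρone : ∀ w : A, ρ 1 w = w := fun w => by rw [MonoidHom.map_one]; rfl
  have hρinv : ∀ (a : Γ) (w : A), ρ a⁻¹ (ρ a w) = w := fun a w => by
    rw [← hρmul, inv_mul_cancel, hρone]
  by_contra hnc
  -- `Z` is proper
  have hZtop : Z ≠ ⊤ := by
    intro hZ
    obtain ⟨k, hk, t, ht, hkt⟩ := h6
    apply hkt
    have ht1 : ρ t = 1 := by
      ext w
      exact h2 t ht w (hZ ▸ Subgroup.mem_top w)
    rw [map_mul, map_mul, map_mul, map_inv, map_inv, ht1]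
    simp
  -- indecomposability
  have hkey : ∀ B : Subgroup A, (∀ s ∈ U, ∀ w ∈ B, ρ s w ∈ B) → ¬ B ≤ Z → Z ≤ B := by
    intro B hB hBZ z hz
    obtain ⟨b, hbB, hbZ⟩ := SetLike.not_le_iff_exists.1 hBZ
    obtain ⟨s, hs, hsz⟩ := h3 b hbZ z hz
    rw [← hsz]
    exact B.mul_mem (hB s hs b hbB) (B.inv_mem hbB)
  have hind : ∀ B C : Subgroup A, (∀ s ∈ U, ∀ w ∈ B, ρ s w ∈ B) →
      (∀ s ∈ U, ∀ w ∈ C, ρ s w ∈ C) → B ⊓ C = ⊥ → B ⊔ C = ⊤ → B = ⊥ ∨ C = ⊥ := by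
    intro B C hB hC hinf hsup
    by_cases hBZ : B ≤ Z
    · by_cases hCZ : C ≤ Z
      · exact absurd (top_le_iff.1 (hsup ▸ sup_le hBZ hCZ)) hZtop
      · left
        have h7 : B ≤ C := hBZ.trans (hkey C hC hCZ)
        rw [← hinf]
        exact (inf_eq_left.2 h7).symm
    · have h7 : Z ≤ B := hkey B hB hBZ
      by_cases hCZ : C ≤ Z
      · right
        have h8 : C ≤ B := hCZ.trans h7
        rw [← hinf]
        exact (inf_eq_right.2 h8).symm
      · exfalso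
        apply h4
        rw [eq_bot_iff, ← hinf]
        exact le_inf h7 (hkey C hC hCZ)
  -- the subgroup of elements whose action commutes with that of `U`
  set Y : Subgroup Γ :=
    (Subgroup.centralizer ((U.map ρ : Subgroup (MulAut A)) : Set (MulAut A))).comap ρ with hY
  have hKY : K ≤ Y := by
    refine Cfsg.Agent.Lib.Helper48.coprime_generation_le K U hUc hUe hnc hK hUK Y ?_
    intro u hu hu1
    set C : Subgroup Γ := K ⊓ Subgroup.centralizer ({u} : Set Γ) with hC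
    have hCu : ∀ c ∈ C, c * u = u * c := by
      intro c hc
      exact (Subgroup.mem_centralizer_iff.1 (Subgroup.mem_inf.1 hc).2 u
        (Set.mem_singleton u)).symm
    have hCconj : ∀ t ∈ U, ∀ c ∈ C, t * c * t⁻¹ ∈ C := by
      intro t ht c hc
      refine Subgroup.mem_inf.2
        ⟨(Subgroup.mem_normalizer_iff.1 (hUK ht) c).1 (Subgroup.mem_inf.1 hc).1, ?_⟩
      rw [Subgroup.mem_centralizer_iff]
      intro x hx
      rw [Set.mem_singleton_iff] at hx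
      subst hx
      have e1 : t * x = x * t := hUc t ht x hu
      have e2 : c * x = x * c := hCu c hc
      have e3 : t⁻¹ * x = x * t⁻¹ := hUc t⁻¹ (U.inv_mem ht) x hu
      calc x * (t * c * t⁻¹) = (x * t) * c * t⁻¹ := by group
        _ = t * (x * c) * t⁻¹ := by rw [← e1]; group
        _ = t * c * (x * t⁻¹) := by rw [← e2]; group
        _ = t * c * t⁻¹ * x := by rw [← e3]; group
    set D : Subgroup Γ :=
      Subgroup.closure {d | ∃ c ∈ C, ∃ t ∈ U, d = c * t * c⁻¹ * t⁻¹} with hD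
    have hDC : D ≤ C := by
      rw [hD, Subgroup.closure_le]
      rintro d ⟨c, hc, t, ht, rfl⟩
      have h7 : t * c⁻¹ * t⁻¹ ∈ C := hCconj t ht c⁻¹ (C.inv_mem hc)
      have e : c * t * c⁻¹ * t⁻¹ = c * (t * c⁻¹ * t⁻¹) := by group
      rw [e]
      exact C.mul_mem hc h7
    have hDconj : ∀ t' ∈ U, ∀ d ∈ D, t' * d * t'⁻¹ ∈ D := by
      intro t' ht'
      have h7 : D ≤ D.comap ((MulAut.conj t' : Γ ≃* Γ) : Γ →* Γ) := by
        rw [hD, Subgroup.closure_le]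
        rintro d ⟨c, hc, t, ht, rfl⟩
        show t' * (c * t * c⁻¹ * t⁻¹) * t'⁻¹ ∈ Subgroup.closure _
        apply Subgroup.subset_closure
        refine ⟨t' * c * t'⁻¹, hCconj t' ht' c hc, t, ht, ?_⟩
        have e1 : t' * t = t * t' := hUc t' ht' t ht
        have e2 : t'⁻¹ * t⁻¹ = t⁻¹ * t'⁻¹ := hUc t'⁻¹ (U.inv_mem ht') t⁻¹ (U.inv_mem ht)
        calc t' * (c * t * c⁻¹ * t⁻¹) * t'⁻¹ = t' * c * t * c⁻¹ * (t⁻¹ * t'⁻¹) := by group
          _ = t' * c * t * c⁻¹ * (t'⁻¹ * t⁻¹) := by rw [e2]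
          _ = t' * c * (t'⁻¹ * (t' * t)) * c⁻¹ * t'⁻¹ * t⁻¹ := by group
          _ = t' * c * (t'⁻¹ * (t * t')) * c⁻¹ * t'⁻¹ * t⁻¹ := by rw [e1]
          _ = t' * c * t'⁻¹ * t * (t' * c * t'⁻¹)⁻¹ * t⁻¹ := by group
      intro d hd
      exact h7 hd
    -- `D` fixes the image of `u - 1` pointwise
    have hcu : ∀ c' ∈ C, ∀ v : A, ρ c' (ρ u v * v⁻¹) = ρ u (ρ c' v) * (ρ c' v)⁻¹ := by
      intro c' hc' v
      rw [map_mul, map_inv]
      have : ρ c' (ρ u v) = ρ u (ρ c' v) := by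
        rw [← hρmul, ← hρmul, hCu c' hc']
      rw [this]
    have hDfix : ∀ d ∈ D, ∀ w : A, ρ d (ρ u w * w⁻¹) = ρ u w * w⁻¹ := by
      set E : Subgroup Γ :=
        { carrier := {g | ∀ w : A, ρ g (ρ u w * w⁻¹) = ρ u w * w⁻¹}
          mul_mem' := by
            intro a b ha hb w
            rw [hρmul, hb w, ha w]
          one_mem' := by
            intro w
            exact hρone _
          inv_mem' := by
            intro a ha w
            calc ρ a⁻¹ (ρ u w * w⁻¹) = ρ a⁻¹ (ρ a (ρ u w * w⁻¹)) := by rw [ha w]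
              _ = ρ u w * w⁻¹ := hρinv a _ } with hE
      have h7 : D ≤ E := by
        rw [hD, Subgroup.closure_le]
        rintro d ⟨c, hc, t, ht, rfl⟩
        intro w
        rw [hρmul, hρmul, hρmul, h2 t⁻¹ (U.inv_mem ht) _ (h1 u hu w),
          hcu c⁻¹ (C.inv_mem hc) w, h2 t ht _ (h1 u hu _), ← hcu c⁻¹ (C.inv_mem hc) w,
          ← hρmul, mul_inv_cancel, hρone]
      intro d hd w
      exact h7 hd w
    -- hence `[A, D] ≤ C_A(u)`
    have hcomm_fix : ∀ x ∈ commOf ρ D, ρ u x = x := by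
      have h7 : ∀ d ∈ D, ∀ w : A, ρ u (ρ d w * w⁻¹) = ρ d w * w⁻¹ := by
        intro d hd w
        have e1 : ρ u (ρ d w) = ρ d (ρ u w) := by
          rw [← hρmul, ← hρmul, hCu d (hDC hd)]
        have e2 := hDfix d hd w
        rw [map_mul, map_inv] at e2
        have e3 : ρ d (ρ u w) = ρ u w * w⁻¹ * ρ d w := by
          rw [← e2, inv_mul_cancel_right]
        rw [map_mul, map_inv, e1, e3, mul_comm (ρ u w * w⁻¹) (ρ d w), mul_assoc,
          mul_comm (ρ u w) w⁻¹, mul_inv_cancel_right]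
      intro x hx
      have h9 : commOf ρ D ≤ (Cfsg.Agent.Lib.Helper48.fixSubgroup (ρ u)) := by
        unfold commOf
        rw [Subgroup.closure_le]
        rintro x ⟨d, hd, v, rfl⟩
        exact h7 d hd v
      exact h9 hx
    -- coprimality
    have hcop : (Nat.card D).Coprime (Nat.card A) := by
      obtain ⟨n, hn⟩ := IsPGroup.iff_card.1 hA
      rw [hn]
      apply Nat.Coprime.pow_right
      rw [Nat.coprime_comm, hp.coprime_iff_not_dvd]
      intro h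
      exact hK (h.trans (Subgroup.card_dvd_of_le (hDC.trans inf_le_left)))
    -- invariance of the two summands
    have hfixinv : ∀ s ∈ U, ∀ w ∈ fixOf ρ D, ρ s w ∈ fixOf ρ D := by
      intro s hs w hw d hd
      have h7 : s⁻¹ * d * s⁻¹⁻¹ ∈ D := hDconj s⁻¹ (U.inv_mem hs) d hd
      rw [inv_inv] at h7
      have h8 := hw _ h7
      have e : d * s = s * (s⁻¹ * d * s) := by group
      rw [← hρmul, e, hρmul, h8]
    have hcomminv : ∀ s ∈ U, ∀ w ∈ commOf ρ D, ρ s w ∈ commOf ρ D := by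
      intro s hs
      have h7 : commOf ρ D ≤ (commOf ρ D).comap ((ρ s : A ≃* A) : A →* A) := by
        unfold commOf
        rw [Subgroup.closure_le]
        rintro x ⟨d, hd, v, rfl⟩
        show ρ s (ρ d v * v⁻¹) ∈ Subgroup.closure _
        apply Subgroup.subset_closure
        refine ⟨s * d * s⁻¹, hDconj s hs d hd, ρ s v, ?_⟩
        rw [map_mul, map_inv]
        congr 1
        rw [← hρmul, ← hρmul]
        congr 2
        group
      intro w hw
      exact h7 hw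
    rcases hind (fixOf ρ D) (commOf ρ D) hfixinv hcomminv (fixOf_inf_commOf ρ D hcop)
      (fixOf_sup_commOf ρ D hcop) with h7 | h7
    · -- `[A, D] = A ≤ C_A(u)`: `u` acts trivially
      exfalso
      apply hu1
      apply h5 u hu
      have h8 : commOf ρ D = ⊤ := by
        have := fixOf_sup_commOf ρ D hcop
        rwa [h7, bot_sup_eq] at this
      ext w
      exact hcomm_fix w (h8 ▸ Subgroup.mem_top w)
    · -- `D` acts trivially
      intro c hc
      show ρ c ∈ Subgroup.centralizer ((U.map ρ : Subgroup (MulAut A)) : Set (MulAut A))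
      rw [Subgroup.mem_centralizer_iff]
      rintro _ ⟨t, ht, rfl⟩
      have h8 : c * t * c⁻¹ * t⁻¹ ∈ D := Subgroup.subset_closure ⟨c, hc, t, ht, rfl⟩
      have h9 : ρ (c * t * c⁻¹ * t⁻¹) = 1 := by
        ext v
        have h10 : ρ (c * t * c⁻¹ * t⁻¹) v * v⁻¹ ∈ commOf ρ D := comm_mem_commOf ρ h8 v
        rw [h7, Subgroup.mem_bot] at h10
        rw [MulAut.one_apply]
        exact mul_inv_eq_one.1 h10
      have h10 : ρ c * ρ t = ρ t * ρ c := by
        have e : c * t = (c * t * c⁻¹ * t⁻¹) * (t * c) := by group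
        rw [← map_mul, e, map_mul, h9, one_mul, map_mul]
      exact h10.symm
  obtain ⟨k, hk, t, ht, hkt⟩ := h6
  apply hkt
  have h7 : ρ k ∈ Subgroup.centralizer ((U.map ρ : Subgroup (MulAut A)) : Set (MulAut A)) :=
    hKY hk
  have h8 : ρ t * ρ k = ρ k * ρ t :=
    Subgroup.mem_centralizer_iff.1 h7 (ρ t) ⟨t, ht, rfl⟩
  rw [map_mul, map_mul, map_mul, map_inv, map_inv, ← h8]
  group

end Cfsg.Agent.Lib.Helper97.PL

namespace Cfsg.Agent.Lib.Helper97.PL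

section extra

variable {Γ : Type*} [Group Γ] {A : Type*} [CommGroup A]

theorem fixOf_invariant (ρ : Γ →* MulAut A) (D : Subgroup Γ) {s : Γ}
    (hs : ∀ d ∈ D, s⁻¹ * d * s ∈ D) : ∀ w ∈ fixOf ρ D, ρ s w ∈ fixOf ρ D := by
  intro w hw d hd
  have h8 := hw _ (hs d hd)
  have e : d * s = s * (s⁻¹ * d * s) := by group
  have hρmul : ∀ (a b : Γ) (w : A), ρ (a * b) w = ρ a (ρ b w) := fun a b w => by
    rw [MonoidHom.map_mul]; rfl
  rw [← hρmul, e, hρmul, h8]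

theorem commOf_invariant (ρ : Γ →* MulAut A) (D : Subgroup Γ) {s : Γ}
    (hs : ∀ d ∈ D, s * d * s⁻¹ ∈ D) : ∀ w ∈ commOf ρ D, ρ s w ∈ commOf ρ D := by
  have hρmul : ∀ (a b : Γ) (w : A), ρ (a * b) w = ρ a (ρ b w) := fun a b w => by
    rw [MonoidHom.map_mul]; rfl
  have h7 : commOf ρ D ≤ (commOf ρ D).comap ((ρ s : A ≃* A) : A →* A) := by
    unfold commOf
    rw [Subgroup.closure_le]
    rintro x ⟨d, hd, v, rfl⟩
    show ρ s (ρ d v * v⁻¹) ∈ Subgroup.closure _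
    apply Subgroup.subset_closure
    refine ⟨s * d * s⁻¹, hs d hd, ρ s v, ?_⟩
    rw [map_mul, map_inv]
    congr 1
    rw [← hρmul, ← hρmul]
    congr 2
    group
  intro w hw
  exact h7 hw

/-- The subgroup `[K, U]` generated by the commutators `k t k⁻¹ t⁻¹`. -/
def commSub (K U : Subgroup Γ) : Subgroup Γ :=
  Subgroup.closure {d | ∃ k ∈ K, ∃ t ∈ U, d = k * t * k⁻¹ * t⁻¹}

theorem comm_mem_commSub {K U : Subgroup Γ} {k t : Γ} (hk : k ∈ K) (ht : t ∈ U) :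
    k * t * k⁻¹ * t⁻¹ ∈ commSub K U :=
  Subgroup.subset_closure ⟨k, hk, t, ht, rfl⟩

theorem commSub_le {K U : Subgroup Γ} (hUK : ∀ t ∈ U, ∀ k ∈ K, t * k * t⁻¹ ∈ K) :
    commSub K U ≤ K := by
  unfold commSub
  rw [Subgroup.closure_le]
  rintro d ⟨c, hc, t, ht, rfl⟩
  have h7 : t * c⁻¹ * t⁻¹ ∈ K := hUK t ht c⁻¹ (K.inv_mem hc)
  have e : c * t * c⁻¹ * t⁻¹ = c * (t * c⁻¹ * t⁻¹) := by group
  rw [e]
  exact K.mul_mem hc h7

theorem commSub_conj {K U : Subgroup Γ} (hUc : ∀ x ∈ U, ∀ y ∈ U, x * y = y * x)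
    (hUK : ∀ t ∈ U, ∀ k ∈ K, t * k * t⁻¹ ∈ K) :
    ∀ t' ∈ U, ∀ d ∈ commSub K U, t' * d * t'⁻¹ ∈ commSub K U := by
  intro t' ht'
  have h7 : commSub K U ≤ (commSub K U).comap ((MulAut.conj t' : Γ ≃* Γ) : Γ →* Γ) := by
    unfold commSub
    rw [Subgroup.closure_le]
    rintro d ⟨c, hc, t, ht, rfl⟩
    show t' * (c * t * c⁻¹ * t⁻¹) * t'⁻¹ ∈ Subgroup.closure _
    apply Subgroup.subset_closure
    refine ⟨t' * c * t'⁻¹, hUK t' ht' c hc, t, ht, ?_⟩
    have e1 : t' * t = t * t' := hUc t' ht' t ht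
    have e2 : t'⁻¹ * t⁻¹ = t⁻¹ * t'⁻¹ := hUc t'⁻¹ (U.inv_mem ht') t⁻¹ (U.inv_mem ht)
    calc t' * (c * t * c⁻¹ * t⁻¹) * t'⁻¹ = t' * c * t * c⁻¹ * (t⁻¹ * t'⁻¹) := by group
      _ = t' * c * t * c⁻¹ * (t'⁻¹ * t⁻¹) := by rw [e2]
      _ = t' * c * (t'⁻¹ * (t' * t)) * c⁻¹ * t'⁻¹ * t⁻¹ := by group
      _ = t' * c * (t'⁻¹ * (t * t')) * c⁻¹ * t'⁻¹ * t⁻¹ := by rw [e1]
      _ = t' * c * t'⁻¹ * t * (t' * c * t'⁻¹)⁻¹ * t⁻¹ := by group
  intro d hd
  exact h7 hd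

/-- Camina actions are indecomposable. -/
theorem camina_indecomposable (ρ : Γ →* MulAut A) (U : Subgroup Γ) (Z : Subgroup A)
    (h3 : ∀ w : A, w ∉ Z → ∀ z ∈ Z, ∃ s ∈ U, ρ s w * w⁻¹ = z)
    (h4 : Z ≠ ⊥) (hZtop : Z ≠ ⊤) (B C : Subgroup A) (hB : ∀ s ∈ U, ∀ w ∈ B, ρ s w ∈ B)
    (hC : ∀ s ∈ U, ∀ w ∈ C, ρ s w ∈ C) (hinf : B ⊓ C = ⊥) (hsup : B ⊔ C = ⊤) :
    B = ⊥ ∨ C = ⊥ := by
  have hkey : ∀ B : Subgroup A, (∀ s ∈ U, ∀ w ∈ B, ρ s w ∈ B) → ¬ B ≤ Z → Z ≤ B := by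
    intro B hB hBZ z hz
    obtain ⟨b, hbB, hbZ⟩ := SetLike.not_le_iff_exists.1 hBZ
    obtain ⟨s, hs, hsz⟩ := h3 b hbZ z hz
    rw [← hsz]
    exact B.mul_mem (hB s hs b hbB) (B.inv_mem hbB)
  by_cases hBZ : B ≤ Z
  · by_cases hCZ : C ≤ Z
    · exact absurd (top_le_iff.1 (hsup ▸ sup_le hBZ hCZ)) hZtop
    · left
      have h7 : B ≤ C := hBZ.trans (hkey C hC hCZ)
      rw [← hinf]
      exact (inf_eq_left.2 h7).symm
  · have h7 : Z ≤ B := hkey B hB hBZ
    by_cases hCZ : C ≤ Z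
    · right
      have h8 : C ≤ B := hCZ.trans h7
      rw [← hinf]
      exact (inf_eq_right.2 h8).symm
    · exfalso
      apply h4
      rw [eq_bot_iff, ← hinf]
      exact le_inf h7 (hkey C hC hCZ)

/-- In a Camina action, a `p'`-subgroup normalized by `U` and acting non-trivially has no
non-trivial fixed points. -/
theorem fixOf_eq_bot_of_camina [Finite A] {p : ℕ} [Fact p.Prime] (ρ : Γ →* MulAut A)
    (hA : IsPGroup p A) (U D : Subgroup Γ) [Finite D] (Z : Subgroup A)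
    (hD : ¬ p ∣ Nat.card D) (hUD : ∀ t ∈ U, ∀ d ∈ D, t * d * t⁻¹ ∈ D)
    (h3 : ∀ w : A, w ∉ Z → ∀ z ∈ Z, ∃ s ∈ U, ρ s w * w⁻¹ = z)
    (h4 : Z ≠ ⊥) (hZtop : Z ≠ ⊤) (hDne : ∃ d ∈ D, ρ d ≠ 1) : fixOf ρ D = ⊥ := by
  have hp : p.Prime := Fact.out
  have hcop : (Nat.card D).Coprime (Nat.card A) := by
    obtain ⟨n, hn⟩ := IsPGroup.iff_card.1 hA
    rw [hn]
    apply Nat.Coprime.pow_right
    rw [Nat.coprime_comm, hp.coprime_iff_not_dvd]
    exact hD
  have hfixinv : ∀ s ∈ U, ∀ w ∈ fixOf ρ D, ρ s w ∈ fixOf ρ D := by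
    intro s hs
    apply fixOf_invariant
    intro d hd
    have := hUD s⁻¹ (U.inv_mem hs) d hd
    rwa [inv_inv] at this
  have hcomminv : ∀ s ∈ U, ∀ w ∈ commOf ρ D, ρ s w ∈ commOf ρ D := by
    intro s hs
    exact commOf_invariant ρ D (hUD s hs)
  rcases camina_indecomposable ρ U Z h3 h4 hZtop (fixOf ρ D) (commOf ρ D) hfixinv hcomminv
    (fixOf_inf_commOf ρ D hcop) (fixOf_sup_commOf ρ D hcop) with h7 | h7
  · exact h7
  · exfalso
    obtain ⟨d, hd, hd1⟩ := hDne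
    apply hd1
    ext v
    have h10 : ρ d v * v⁻¹ ∈ commOf ρ D := comm_mem_commOf ρ hd v
    rw [h7, Subgroup.mem_bot] at h10
    rw [MulAut.one_apply]
    exact mul_inv_eq_one.1 h10

end extra

end Cfsg.Agent.Lib.Helper97.PL
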