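import Mathlib
import Cfsg.Prelude.Def_Local
import Cfsg.Agent.Lib.Helper97.PL.Defs
import Cfsg.Agent.Lib.Helper63.HallHigman

/-!
# Preparations for the `p`-length-one theorem for Schmidt-type Sylow subgroups (helper97)
-/

set_option autoImplicit false

namespace Cfsg.Agent.Lib.Helper97.PL

open Cfsg

variable {H : Type*} [Group H]

/-- `[a^n, b] = [a, b]^n` when `[a, b]` commutes with `a`. -/
theorem comm_pow_left {a b : H} (h : a * (a * b * a⁻¹ * b⁻¹) = (a * b * a⁻¹ * b⁻¹) * a) (n : ℕ) :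
    a ^ n * b * (a ^ n)⁻¹ * b⁻¹ = (a * b * a⁻¹ * b⁻¹) ^ n := by
  induction n with
  | zero => simp
  | succ n ih =>
    have hc : a * (a * b * a⁻¹ * b⁻¹) ^ n = (a * b * a⁻¹ * b⁻¹) ^ n * a := by
      have : Commute a (a * b * a⁻¹ * b⁻¹) := h
      exact (this.pow_right n).eq
    calc a ^ (n + 1) * b * (a ^ (n + 1))⁻¹ * b⁻¹
        = a * (a ^ n * b * (a ^ n)⁻¹ * b⁻¹) * (b * a⁻¹ * b⁻¹) := by rw [pow_succ']; group
      _ = a * (a * b * a⁻¹ * b⁻¹) ^ n * (b * a⁻¹ * b⁻¹) := by rw [ih]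
      _ = (a * b * a⁻¹ * b⁻¹) ^ n * a * (b * a⁻¹ * b⁻¹) := by rw [hc]
      _ = (a * b * a⁻¹ * b⁻¹) ^ n * (a * b * a⁻¹ * b⁻¹) := by group
      _ = (a * b * a⁻¹ * b⁻¹) ^ (n + 1) := by rw [pow_succ]

/-- The centre of the subgroup `S`, as a subgroup of the ambient group. -/
def Zc (S : Subgroup H) : Subgroup H := (Subgroup.center ↥S).map S.subtype

theorem mem_Zc {S : Subgroup H} {z : H} : z ∈ Zc S ↔ z ∈ S ∧ ∀ s ∈ S, s * z = z * s := by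
  constructor
  · rintro ⟨z', hz', rfl⟩
    refine ⟨z'.2, fun s hs => ?_⟩
    have := Subgroup.mem_center_iff.1 hz' ⟨s, hs⟩
    exact congrArg Subtype.val this
  · rintro ⟨hz, h⟩
    refine Subgroup.mem_map.2 ⟨⟨z, hz⟩, ?_, rfl⟩
    rw [Subgroup.mem_center_iff]
    intro g
    exact Subtype.ext (h g g.2)

theorem coe_mem_Zc {S : Subgroup H} {z : ↥S} : (z : H) ∈ Zc S ↔ z ∈ Subgroup.center ↥S := by
  rw [mem_Zc, Subgroup.mem_center_iff]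
  constructor
  · rintro ⟨_, h⟩ g
    exact Subtype.ext (h g g.2)
  · intro h
    exact ⟨z.2, fun s hs => congrArg Subtype.val (h ⟨s, hs⟩)⟩

theorem Zc_le (S : Subgroup H) : Zc S ≤ S := fun _ hz => (mem_Zc.1 hz).1

/-- The Schmidt-special structure of a subgroup, in terms of elements of the ambient group. -/
structure SpecIn (p : ℕ) (S : Subgroup H) : Prop where
  comm : ∀ a ∈ S, ∀ b ∈ S, a * b * a⁻¹ * b⁻¹ ∈ Zc S
  pow : ∀ a ∈ S, a ^ p ∈ Zc S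
  camina : ∀ g ∈ S, g ∉ Zc S → ∀ z ∈ Zc S, ∃ s ∈ S, g * s * g⁻¹ * s⁻¹ = z
  three : p = 3 → ¬ ∃ a ∈ S, ∃ b ∈ S, ∀ g ∈ S, ∃ i j : ℕ, ∃ z ∈ Zc S, g = a ^ i * b ^ j * z
  two : p = 2 → (∃ a ∈ S, ∃ b ∈ S, ∀ g ∈ S, ∃ i j : ℕ, ∃ z ∈ Zc S, g = a ^ i * b ^ j * z) →
    ∀ g ∈ S, g ^ 2 = 1 → g ∈ Zc S

theorem specIn_of_schmidtSpecial {p : ℕ} {S : Subgroup H} (h : SchmidtSpecial p ↥S) :
    SpecIn p S := by
  obtain ⟨h1, h2, h3, h4, h5⟩ := h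
  have htwo : (∃ a ∈ S, ∃ b ∈ S, ∀ g ∈ S, ∃ i j : ℕ, ∃ z ∈ Zc S, g = a ^ i * b ^ j * z) →
      TwoGenModCenter ↥S := by
    rintro ⟨a, ha, b, hb, hg⟩
    refine ⟨⟨a, ha⟩, ⟨b, hb⟩, fun g => ?_⟩
    obtain ⟨i, j, z, hz, hgz⟩ := hg g g.2
    refine ⟨i, j, ⟨z, Zc_le S hz⟩, coe_mem_Zc.1 hz, Subtype.ext ?_⟩
    simpa using hgz
  refine ⟨?_, ?_, ?_, ?_, ?_⟩
  · intro a ha b hb
    have := coe_mem_Zc.2 (h1 ⟨a, ha⟩ ⟨b, hb⟩)
    simpa using this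
  · intro a ha
    have := coe_mem_Zc.2 (h2 ⟨a, ha⟩)
    simpa using this
  · intro g hg hgZ z hz
    have hg' : (⟨g, hg⟩ : ↥S) ∉ Subgroup.center ↥S := fun hc => hgZ (coe_mem_Zc.2 hc)
    obtain ⟨s, hs⟩ := h3 ⟨g, hg⟩ hg' ⟨z, Zc_le S hz⟩ (coe_mem_Zc.1 hz)
    refine ⟨s, s.2, ?_⟩
    have := congrArg Subtype.val hs
    simpa using this
  · intro hp hex
    exact h4 hp (htwo hex)
  · intro hp hex g hg hg2
    have := h5 hp (htwo hex) ⟨g, hg⟩ (Subtype.ext (by simpa using hg2))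
    exact coe_mem_Zc.2 this

/-- `Ω₁(Z(R))` as a subgroup of the ambient group. -/
def omegaZ (p : ℕ) (R : Subgroup H) : Subgroup H where
  carrier := {w | w ∈ R ∧ (∀ r ∈ R, r * w = w * r) ∧ w ^ p = 1}
  mul_mem' := by
    rintro a b ⟨ha, hac, hap⟩ ⟨hb, hbc, hbp⟩
    refine ⟨R.mul_mem ha hb, fun r hr => ?_, ?_⟩
    · rw [← mul_assoc, hac r hr, mul_assoc, hbc r hr, mul_assoc]
    · have : Commute a b := (hbc a ha)
      rw [this.mul_pow, hap, hbp, mul_one]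
  one_mem' := ⟨R.one_mem, fun r _ => by rw [mul_one, one_mul], one_pow p⟩
  inv_mem' := by
    rintro a ⟨ha, hac, hap⟩
    refine ⟨R.inv_mem ha, fun r hr => ?_, by rw [inv_pow, hap, inv_one]⟩
    have : Commute r a := hac r hr
    exact this.inv_right.eq

theorem mem_omegaZ {p : ℕ} {R : Subgroup H} {w : H} :
    w ∈ omegaZ p R ↔ w ∈ R ∧ (∀ r ∈ R, r * w = w * r) ∧ w ^ p = 1 := Iff.rfl

theorem omegaZ_normal (p : ℕ) (R : Subgroup H) [hR : R.Normal] : (omegaZ p R).Normal := by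
  refine ⟨fun w hw g => ?_⟩
  obtain ⟨hwR, hwc, hwp⟩ := hw
  refine ⟨hR.conj_mem w hwR g, fun r hr => ?_, ?_⟩
  · have h1 : g⁻¹ * r * g⁻¹⁻¹ ∈ R := hR.conj_mem r hr g⁻¹
    have h2 := hwc _ h1
    rw [inv_inv] at h2
    calc r * (g * w * g⁻¹) = g * ((g⁻¹ * r * g) * w) * g⁻¹ := by group
      _ = g * (w * (g⁻¹ * r * g)) * g⁻¹ := by rw [h2]
      _ = g * w * g⁻¹ * r := by group
  · rw [conj_pow, hwp, mul_one, mul_inv_cancel]

/-- An element stabilizing the chain `1 ≤ W ≤ O_p(H)` lies in `O_p(H)` when `O_p(H)` contains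
its centralizer (`W` of exponent `p`). -/
theorem mem_pCore_of_stab [Finite H] {p : ℕ} [Fact p.Prime] (W : Subgroup H) [hWn : W.Normal]
    (hWp : ∀ w ∈ W, w ^ p = 1)
    (hCR : Subgroup.centralizer (pCore p H : Set H) ≤ pCore p H) (g : H)
    (hg1 : ∀ r ∈ pCore p H, g * r * g⁻¹ * r⁻¹ ∈ W) (hg2 : ∀ w ∈ W, g * w = w * g) :
    g ∈ pCore p H := by
  have hRn : (pCore p H).Normal := inferInstance
  have hRp : IsPGroup p (pCore p H) := Cfsg.Agent.Lib.Helper63.pCore_isPGroup' p H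
  set N₁ : Subgroup H :=
    { carrier := {g | (∀ r ∈ pCore p H, g * r * g⁻¹ * r⁻¹ ∈ W) ∧ ∀ w ∈ W, g * w = w * g}
      mul_mem' := by
        rintro a b ⟨ha1, ha2⟩ ⟨hb1, hb2⟩
        refine ⟨fun r hr => ?_, fun w hw => ?_⟩
        · have e : a * b * r * (a * b)⁻¹ * r⁻¹ =
              a * (b * r * b⁻¹ * r⁻¹) * a⁻¹ * (a * r * a⁻¹ * r⁻¹) := by group
          rw [e]
          exact W.mul_mem (hWn.conj_mem _ (hb1 r hr) a) (ha1 r hr)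
        · rw [mul_assoc, hb2 w hw, ← mul_assoc, ha2 w hw, mul_assoc]
      one_mem' := ⟨fun r _ => by simp, fun w _ => by rw [mul_one, one_mul]⟩
      inv_mem' := by
        rintro a ⟨ha1, ha2⟩
        refine ⟨fun r hr => ?_, fun w hw => ?_⟩
        · have h1 : a⁻¹ * r * a⁻¹⁻¹ ∈ pCore p H := hRn.conj_mem r hr a⁻¹
          have h2 := W.inv_mem (ha1 _ h1)
          have e : a⁻¹ * r * a⁻¹⁻¹ * r⁻¹ =
              (a * (a⁻¹ * r * a⁻¹⁻¹) * a⁻¹ * (a⁻¹ * r * a⁻¹⁻¹)⁻¹)⁻¹ := by group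
          rw [e]
          exact h2
        · have : Commute a w := ha2 w hw
          exact this.inv_left.eq } with hN₁
  have hN₁n : N₁.Normal := by
    refine ⟨fun a ha h => ?_⟩
    obtain ⟨ha1, ha2⟩ := ha
    refine ⟨fun r hr => ?_, fun w hw => ?_⟩
    · have h1 : h⁻¹ * r * h⁻¹⁻¹ ∈ pCore p H := hRn.conj_mem r hr h⁻¹
      have h2 := hWn.conj_mem _ (ha1 _ h1) h
      have e : h * a * h⁻¹ * r * (h * a * h⁻¹)⁻¹ * r⁻¹ =
          h * (a * (h⁻¹ * r * h⁻¹⁻¹) * a⁻¹ * (h⁻¹ * r * h⁻¹⁻¹)⁻¹) * h⁻¹ := by group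
      rw [e]
      exact h2
    · have h1 : h⁻¹ * w * h⁻¹⁻¹ ∈ W := hWn.conj_mem w hw h⁻¹
      have h2 := ha2 _ h1
      rw [inv_inv] at h2
      calc h * a * h⁻¹ * w = h * (a * (h⁻¹ * w * h)) * h⁻¹ := by group
        _ = h * ((h⁻¹ * w * h) * a) * h⁻¹ := by rw [h2]
        _ = w * (h * a * h⁻¹) := by group
  have hN₁p : IsPGroup p N₁ := by
    rintro ⟨a, ha1, ha2⟩
    have h1 : a ^ p ∈ Subgroup.centralizer (pCore p H : Set H) := by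
      rw [Subgroup.mem_centralizer_iff]
      intro r hr
      have hc : a * (a * r * a⁻¹ * r⁻¹) = (a * r * a⁻¹ * r⁻¹) * a := ha2 _ (ha1 r hr)
      have h2 := comm_pow_left hc p
      rw [hWp _ (ha1 r hr)] at h2
      -- h2 : a ^ p * r * (a ^ p)⁻¹ * r⁻¹ = 1
      have h3 : a ^ p * r * (a ^ p)⁻¹ = r := by
        rw [← mul_inv_eq_one]; exact h2
      calc r * a ^ p = (a ^ p * r * (a ^ p)⁻¹) * a ^ p := by rw [h3]
        _ = a ^ p * r := by group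
    obtain ⟨k, hk⟩ := hRp ⟨a ^ p, hCR h1⟩
    refine ⟨k + 1, Subtype.ext ?_⟩
    have hk' : (a ^ p) ^ p ^ k = 1 := congrArg Subtype.val hk
    show a ^ p ^ (k + 1) = 1
    rw [pow_succ', pow_mul]
    exact hk'
  have hle : N₁ ≤ pCore p H := Cfsg.Agent.Lib.Helper63.le_pCore' hN₁n hN₁p
  exact hle ⟨hg1, hg2⟩

/-- The elements `g` with `[g, O_p(H)] ≤ W`. -/
def stabSub (p : ℕ) (W : Subgroup H) [hWn : W.Normal] : Subgroup H where
  carrier := {g | ∀ r ∈ pCore p H, g * r * g⁻¹ * r⁻¹ ∈ W}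
  mul_mem' := by
    intro a b ha1 hb1 r hr
    have e : a * b * r * (a * b)⁻¹ * r⁻¹ =
        a * (b * r * b⁻¹ * r⁻¹) * a⁻¹ * (a * r * a⁻¹ * r⁻¹) := by group
    rw [e]
    exact W.mul_mem (hWn.conj_mem _ (hb1 r hr) a) (ha1 r hr)
  one_mem' := fun r _ => by simp
  inv_mem' := by
    intro a ha1 r hr
    have hRn : (pCore p H).Normal := inferInstance
    have h1 : a⁻¹ * r * a⁻¹⁻¹ ∈ pCore p H := hRn.conj_mem r hr a⁻¹
    have h2 := W.inv_mem (ha1 _ h1)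
    have e : a⁻¹ * r * a⁻¹⁻¹ * r⁻¹ =
        (a * (a⁻¹ * r * a⁻¹⁻¹) * a⁻¹ * (a⁻¹ * r * a⁻¹⁻¹)⁻¹)⁻¹ := by group
    rw [e]
    exact h2

theorem mem_stabSub {p : ℕ} {W : Subgroup H} [W.Normal] {g : H} :
    g ∈ stabSub p W ↔ ∀ r ∈ pCore p H, g * r * g⁻¹ * r⁻¹ ∈ W := Iff.rfl

theorem stabSub_normal (p : ℕ) (W : Subgroup H) [hWn : W.Normal] : (stabSub p W).Normal := by
  have hRn : (pCore p H).Normal := inferInstance
  refine ⟨fun a ha1 h r hr => ?_⟩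
  have h1 : h⁻¹ * r * h⁻¹⁻¹ ∈ pCore p H := hRn.conj_mem r hr h⁻¹
  have h2 := hWn.conj_mem _ (ha1 _ h1) h
  have e : h * a * h⁻¹ * r * (h * a * h⁻¹)⁻¹ * r⁻¹ =
      h * (a * (h⁻¹ * r * h⁻¹⁻¹) * a⁻¹ * (h⁻¹ * r * h⁻¹⁻¹)⁻¹) * h⁻¹ := by group
  rw [e]
  exact h2

/-- Multiplying two elements by commuting "central" factors does not change their commutator. -/
theorem comm_mul_central {a b u v : H} (hua : Commute u a) (hub : Commute u b)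
    (hva : Commute v a) (hvb : Commute v b) (huv : Commute u v) :
    (u * a) * (v * b) * (u * a)⁻¹ * (v * b)⁻¹ = a * b * a⁻¹ * b⁻¹ := by
  have hvc : Commute v (a * b * a⁻¹ * b⁻¹) :=
    ((hva.mul_right hvb).mul_right hva.inv_right).mul_right hvb.inv_right
  have huc : Commute u (a * b * a⁻¹ * b⁻¹) :=
    ((hua.mul_right hub).mul_right hua.inv_right).mul_right hub.inv_right
  have h1 : a * v = v * a := hva.eq.symm
  have h2 : u⁻¹ * b⁻¹ = b⁻¹ * u⁻¹ := hub.inv_inv.eq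
  have h3 : u * v * (a * b * a⁻¹ * b⁻¹) = (a * b * a⁻¹ * b⁻¹) * (u * v) := (huc.mul_left hvc).eq
  have h4 : u * v * u⁻¹ * v⁻¹ = 1 := by
    rw [huv.eq]; group
  calc (u * a) * (v * b) * (u * a)⁻¹ * (v * b)⁻¹
      = u * (a * v) * b * a⁻¹ * (u⁻¹ * b⁻¹) * v⁻¹ := by group
    _ = u * (v * a) * b * a⁻¹ * (b⁻¹ * u⁻¹) * v⁻¹ := by rw [h1, h2]
    _ = (u * v * (a * b * a⁻¹ * b⁻¹)) * u⁻¹ * v⁻¹ := by group
    _ = (a * b * a⁻¹ * b⁻¹) * (u * v * u⁻¹ * v⁻¹) := by rw [h3]; group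
    _ = a * b * a⁻¹ * b⁻¹ := by rw [h4, mul_one]

end Cfsg.Agent.Lib.Helper97.PL
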