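import Mathlib
import Cfsg.Prelude.Def_Local
import Cfsg.Agent.Lib.Helper97.PL.Stab
import Cfsg.Agent.Lib.Helper11.FFTransfer

/-!
# The primes `p ≥ 5` (helper97)

If the Sylow `p`-subgroup `S` (of Schmidt-special type) of a `p`-soluble group `H` with
`C_H(O_p(H)) ≤ O_p(H)` is not contained in `O_p(H)`, then `p ≤ 3`: an element of `S` outside
`O_p(H)` acts quadratically on `W = Ω₁(Z(O_p(H)))`.
-/

set_option autoImplicit false

namespace Cfsg.Agent.Lib.Helper97.PL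

open Cfsg
open scoped commutatorElement

theorem two_or_three_of_not_le {H : Type*} [Group H] [Finite H] {p : ℕ} [Fact p.Prime]
    (hsol : IsPSolvable p H)
    (hCR : Subgroup.centralizer (pCore p H : Set H) ≤ pCore p H)
    (S : Subgroup H) (hS : SpecIn p S)
    (W : Subgroup H) [hWn : W.Normal] (hWS : W ≤ S)
    (hWcomm : ∀ a ∈ W, ∀ b ∈ W, a * b = b * a) (hWp : ∀ w ∈ W, w ^ p = 1)
    (hstab : ∀ s ∈ S, ∀ r ∈ pCore p H, s * r * s⁻¹ * r⁻¹ ∈ W)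
    (x₀ : H) (hx₀S : x₀ ∈ S) (hx₀R : x₀ ∉ pCore p H) : p = 2 ∨ p = 3 := by
  by_contra hcon
  push Not at hcon
  obtain ⟨hp2, hp3⟩ := hcon
  have hRn : (pCore p H).Normal := inferInstance
  -- the stabilizer of the chain is normal
  set N₂ : Subgroup H :=
    { carrier := {g | ∀ r ∈ pCore p H, g * r * g⁻¹ * r⁻¹ ∈ W}
      mul_mem' := by
        intro a b ha1 hb1 r hr
        have e : a * b * r * (a * b)⁻¹ * r⁻¹ =
            a * (b * r * b⁻¹ * r⁻¹) * a⁻¹ * (a * r * a⁻¹ * r⁻¹) := by group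
        rw [e]
        exact W.mul_mem (hWn.conj_mem _ (hb1 r hr) a) (ha1 r hr)
      one_mem' := fun r _ => by simp
      inv_mem' := by
        intro a ha1 r hr
        have h1 : a⁻¹ * r * a⁻¹⁻¹ ∈ pCore p H := hRn.conj_mem r hr a⁻¹
        have h2 := W.inv_mem (ha1 _ h1)
        have e : a⁻¹ * r * a⁻¹⁻¹ * r⁻¹ =
            (a * (a⁻¹ * r * a⁻¹⁻¹) * a⁻¹ * (a⁻¹ * r * a⁻¹⁻¹)⁻¹)⁻¹ := by group
        rw [e]
        exact h2 } with hN₂
  have hN₂n : N₂.Normal := by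
    refine ⟨fun a ha1 h r hr => ?_⟩
    have h1 : h⁻¹ * r * h⁻¹⁻¹ ∈ pCore p H := hRn.conj_mem r hr h⁻¹
    have h2 := hWn.conj_mem _ (ha1 _ h1) h
    have e : h * a * h⁻¹ * r * (h * a * h⁻¹)⁻¹ * r⁻¹ =
        h * (a * (h⁻¹ * r * h⁻¹⁻¹) * a⁻¹ * (h⁻¹ * r * h⁻¹⁻¹)⁻¹) * h⁻¹ := by group
    rw [e]
    exact h2
  have hSN₂ : S ≤ N₂ := fun s hs => hstab s hs
  -- the holomorph
  have : Finite (Cfsg.Agent.Lib.Helper11.FFT.Hol W) :=
    Cfsg.Agent.Lib.Helper11.FFT.instFiniteHol W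
  have hWel : IsElementaryAbelian p W :=
    ⟨⟨⟨fun a b => Subtype.ext (hWcomm a a.2 b b.2)⟩⟩, hWp⟩
  have hV := Cfsg.Agent.Lib.Helper11.FFT.VV_elem W hWel
  have hHV : (Cfsg.Agent.Lib.Helper11.FFT.psi W).range ≤ Subgroup.normalizer
      ((Cfsg.Agent.Lib.Helper11.FFT.VV W : Subgroup _) : Set _) := by
    rw [Subgroup.normalizer_eq_top_iff.mpr inferInstance]
    exact le_top
  have hf := Cfsg.Agent.Lib.Helper11.FFT.faith W
  have hsep : IsPSolvable p (Cfsg.Agent.Lib.Helper11.FFT.psi W).range :=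
    Cfsg.Agent.Lib.Helper11.isPSolvable_of_le_range p (Cfsg.Agent.Lib.Helper11.FFT.psi W) hsol _ le_rfl
  have hpow_mem : ∀ n : ℤ, x₀ ^ n ∈ S := fun n => S.zpow_mem hx₀S n
  have hq : ⁅⁅Cfsg.Agent.Lib.Helper11.FFT.VV W, Subgroup.zpowers ((Cfsg.Agent.Lib.Helper11.FFT.psi W) x₀)⁆,
      Subgroup.zpowers ((Cfsg.Agent.Lib.Helper11.FFT.psi W) x₀)⁆ = ⊥ := by
    rw [Subgroup.commutator_eq_bot_iff_le_centralizer, Subgroup.commutator_le]
    rintro _ ⟨w, rfl⟩ g hg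
    obtain ⟨n, rfl⟩ := Subgroup.mem_zpowers_iff.1 hg
    rw [Subgroup.mem_centralizer_iff]
    intro h hh
    obtain ⟨m, rfl⟩ := Subgroup.mem_zpowers_iff.1 hh
    rw [← map_zpow, ← map_zpow]
    -- the commutator is `inl u` with `u ∈ Z(S)`
    have hu : (w : H) * (x₀ ^ n * (w : H)⁻¹ * (x₀ ^ n)⁻¹) ∈ Zc S := by
      have := hS.comm w (hWS w.2) (x₀ ^ n) (hpow_mem n)
      have e : (w : H) * (x₀ ^ n * (w : H)⁻¹ * (x₀ ^ n)⁻¹) = w * x₀ ^ n * (w : H)⁻¹ * (x₀ ^ n)⁻¹ := by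
        group
      rw [e]
      exact this
    have hcomm : ⁅(SemidirectProduct.inl w : Cfsg.Agent.Lib.Helper11.FFT.Hol W), (Cfsg.Agent.Lib.Helper11.FFT.psi W) (x₀ ^ n)⁆ =
        SemidirectProduct.inl (w * MulAut.conjNormal (x₀ ^ n) w⁻¹) := by
      rw [commutatorElement_def, map_mul, ← Cfsg.Agent.Lib.Helper11.FFT.psi_conj W (x₀ ^ n) w⁻¹,
        map_inv]
      group
    rw [hcomm]
    have h1 : x₀ ^ m * ((w * MulAut.conjNormal (x₀ ^ n) w⁻¹ : ↥W) : H) =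
        ((w * MulAut.conjNormal (x₀ ^ n) w⁻¹ : ↥W) : H) * x₀ ^ m := by
      have h2 : ((w * MulAut.conjNormal (x₀ ^ n) w⁻¹ : ↥W) : H) =
          (w : H) * (x₀ ^ n * (w : H)⁻¹ * (x₀ ^ n)⁻¹) := by
        rw [Subgroup.coe_mul, MulAut.conjNormal_apply, Subgroup.coe_inv]
      rw [h2]
      exact (mem_Zc.1 hu).2 _ (hpow_mem m)
    exact (Cfsg.Agent.Lib.Helper11.FFT.psi_commute_iff W (x₀ ^ m) _).2 h1
  have hna : (Cfsg.Agent.Lib.Helper11.FFT.psi W) x₀ ∉ (pCore p (Cfsg.Agent.Lib.Helper11.FFT.psi W).range).map (Cfsg.Agent.Lib.Helper11.FFT.psi W).range.subtype := by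
    intro hmem
    apply hx₀R
    -- the preimage of `O_p` of the range, intersected with the stabilizer
    set Ybar : Subgroup (Cfsg.Agent.Lib.Helper11.FFT.Hol W) :=
      (pCore p (Cfsg.Agent.Lib.Helper11.FFT.psi W).range).map (Cfsg.Agent.Lib.Helper11.FFT.psi W).range.subtype with hYbar
    have hYbarp : ∀ y ∈ Ybar, ∃ k : ℕ, y ^ p ^ k = 1 := by
      rintro _ ⟨y', hy', rfl⟩
      obtain ⟨k, hk⟩ := Cfsg.Agent.Lib.Helper63.pCore_isPGroup' p (Cfsg.Agent.Lib.Helper11.FFT.psi W).range ⟨y', hy'⟩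
      refine ⟨k, ?_⟩
      have := congrArg Subtype.val (congrArg Subtype.val hk)
      simpa using this
    have hYbarn : ∀ y ∈ Ybar, ∀ h : H, (Cfsg.Agent.Lib.Helper11.FFT.psi W) h * y * ((Cfsg.Agent.Lib.Helper11.FFT.psi W) h)⁻¹ ∈ Ybar := by
      rintro _ ⟨y', hy', rfl⟩ h
      have hn : (pCore p (Cfsg.Agent.Lib.Helper11.FFT.psi W).range).Normal := inferInstance
      have := hn.conj_mem y' hy' ⟨(Cfsg.Agent.Lib.Helper11.FFT.psi W) h, h, rfl⟩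
      exact ⟨_, this, rfl⟩
    set Y : Subgroup H := N₂ ⊓ Ybar.comap (Cfsg.Agent.Lib.Helper11.FFT.psi W) with hY
    have hYn : Y.Normal := by
      refine ⟨fun a ha h => ?_⟩
      refine Subgroup.mem_inf.2 ⟨hN₂n.conj_mem a (Subgroup.mem_inf.1 ha).1 h, ?_⟩
      rw [Subgroup.mem_comap, map_mul, map_mul, map_inv]
      exact hYbarn _ (Subgroup.mem_comap.1 (Subgroup.mem_inf.1 ha).2) h
    have hYp : IsPGroup p Y := by
      rintro ⟨a, ha⟩
      have ha1 : a ∈ N₂ := (Subgroup.mem_inf.1 ha).1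
      have ha2 : (Cfsg.Agent.Lib.Helper11.FFT.psi W) a ∈ Ybar := Subgroup.mem_comap.1 (Subgroup.mem_inf.1 ha).2
      obtain ⟨k, hk⟩ := hYbarp _ ha2
      have h1 : a ^ p ^ k ∈ (Cfsg.Agent.Lib.Helper11.FFT.psi W).ker := by
        rw [MonoidHom.mem_ker, map_pow]
        exact hk
      rw [Cfsg.Agent.Lib.Helper11.FFT.psi_ker] at h1
      have h2 : a ^ p ^ k ∈ pCore p H := by
        refine mem_pCore_of_stab W hWp hCR (a ^ p ^ k) (N₂.pow_mem ha1 _) ?_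
        intro w hw
        exact (Subgroup.mem_centralizer_iff.1 h1 w hw).symm
      obtain ⟨j, hj⟩ := Cfsg.Agent.Lib.Helper63.pCore_isPGroup' p H ⟨a ^ p ^ k, h2⟩
      refine ⟨k + j, Subtype.ext ?_⟩
      have hj' : (a ^ p ^ k) ^ p ^ j = 1 := congrArg Subtype.val hj
      show a ^ p ^ (k + j) = 1
      rw [pow_add, pow_mul]
      exact hj'
    have hle : Y ≤ pCore p H := Cfsg.Agent.Lib.Helper63.le_pCore' hYn hYp
    exact hle (Subgroup.mem_inf.2 ⟨hSN₂ hx₀S, Subgroup.mem_comap.2 hmem⟩)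
  have h3 := (Cfsg.Agent.Lib.Helper11.sl23_section_of_quad hp2
    (Cfsg.Agent.Lib.Helper11.FFT.VV W) (Cfsg.Agent.Lib.Helper11.FFT.psi W).range hV hHV hf hsep ((Cfsg.Agent.Lib.Helper11.FFT.psi W) x₀) ⟨x₀, rfl⟩ hq hna).1
  exact hp3 h3

end Cfsg.Agent.Lib.Helper97.PL
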