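import Mathlib
import Cfsg.Prelude.Def_Local
import Cfsg.Agent.Lib.Helper97.PL.Stab
import Cfsg.Agent.Lib.Helper97.PL.ModM
import Cfsg.Agent.Lib.Helper97.PL.Quad
import Cfsg.Agent.Lib.Helper54.ThmBAbelian
import Cfsg.Agent.Lib.Helper46.BenderPS
import Cfsg.Agent.Lib.Helper69.PSolvable

/-!
# `p`-length one for Schmidt-type Sylow subgroups: the core (helper97)

A `p`-soluble group `H` with `O_{p'}(H) = 1` whose Sylow `p`-subgroup is abelian or of the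
Schmidt-special form has a normal Sylow `p`-subgroup.
-/

set_option autoImplicit false

namespace Cfsg.Agent.Lib.Helper97.PL

open Cfsg

theorem le_pCore_of_specIn {H : Type*} [Group H] [Finite H] {p : ℕ} [Fact p.Prime]
    (hsol : IsPSolvable p H) (h0 : pPrimeCore p H = ⊥) (P : Sylow p H)
    (hS : SpecIn p (P : Subgroup H)) : (P : Subgroup H) ≤ pCore p H := by
  classical
  have hp : p.Prime := Fact.out
  by_contra hSR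
  set S : Subgroup H := (P : Subgroup H) with hSdef
  set R : Subgroup H := pCore p H with hRdef
  have hRn : R.Normal := inferInstance
  have hRp : IsPGroup p R := Cfsg.Agent.Lib.Helper63.pCore_isPGroup' p H
  have hRS : R ≤ S := Cfsg.Agent.Lib.Helper63.pCore_le_sylow' p P
  have hCR : Subgroup.centralizer (R : Set H) ≤ R :=
    Cfsg.Agent.Lib.Helper63.centralizer_pCore_le h0
      (Cfsg.Agent.Lib.Helper63.exists_plengthLE_of_isPSolvable hsol)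
  obtain ⟨x₀, hx₀S, hx₀R⟩ := SetLike.not_le_iff_exists.1 hSR
  set Z : Subgroup H := Zc S with hZdef
  have hZc : ∀ z ∈ Z, ∀ s ∈ S, s * z = z * s := fun z hz => (mem_Zc.1 hz).2
  have hZR : Z ≤ R := by
    intro z hz
    apply hCR
    rw [Subgroup.mem_centralizer_iff]
    intro r hr
    exact hZc z hz r (hRS hr)
  have hx₀Z : x₀ ∉ Z := fun h => hx₀R (hZR h)
  -- `Z` has exponent `p`
  have hZexp : ∀ z ∈ Z, z ^ p = 1 := by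
    intro z hz
    obtain ⟨s, hs, hsz⟩ := hS.camina x₀ hx₀S hx₀Z z hz
    have hc : x₀ * (x₀ * s * x₀⁻¹ * s⁻¹) = (x₀ * s * x₀⁻¹ * s⁻¹) * x₀ := by
      rw [hsz]; exact hZc z hz x₀ hx₀S
    have h1 := comm_pow_left hc p
    rw [hsz] at h1
    rw [← h1]
    have h2 : s * x₀ ^ p = x₀ ^ p * s := hZc _ (hS.pow x₀ hx₀S) s hs
    rw [← h2]; group
  -- `W = Ω₁(Z(R))`
  set W : Subgroup H := omegaZ p R with hWdef
  haveI hWn : W.Normal := omegaZ_normal p R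
  have hWR : W ≤ R := fun w hw => hw.1
  have hWS : W ≤ S := hWR.trans hRS
  have hWcR : ∀ w ∈ W, ∀ r ∈ R, r * w = w * r := fun w hw => hw.2.1
  have hWp : ∀ w ∈ W, w ^ p = 1 := fun w hw => hw.2.2
  have hWcomm : ∀ a ∈ W, ∀ b ∈ W, a * b = b * a := fun a ha b hb => hWcR b hb a (hWR ha)
  have hZW : Z ≤ W := fun z hz => ⟨hZR hz, fun r hr => hZc z hz r (hRS hr), hZexp z hz⟩
  have hstab : ∀ s ∈ S, ∀ r ∈ R, s * r * s⁻¹ * r⁻¹ ∈ W :=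
    fun s hs r hr => hZW (hS.comm s hs r (hRS hr))
  -- `p = 2` or `p = 3`
  have hp23 : p = 2 ∨ p = 3 :=
    two_or_three_of_not_le hsol hCR S hS W hWS hWcomm hWp hstab x₀ hx₀S hx₀R
  have hN₂n : (stabSub p W).Normal := stabSub_normal p W
  have hSN₂ : S ≤ stabSub p W := fun s hs => hstab s hs
  have hNW : ∀ g ∈ stabSub p W, (∀ w ∈ W, g * w = w * g) → g ∈ R :=
    fun g hg hgw => mem_pCore_of_stab W hWp hCR g hg hgw
  -- the quotient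
  let π : H →* H ⧸ R := QuotientGroup.mk' R
  have hπs : Function.Surjective π := QuotientGroup.mk'_surjective R
  have hπ1 : ∀ g : H, π g = 1 ↔ g ∈ R := fun g => QuotientGroup.eq_one_iff g
  have hsolΓ : IsPSolvable p (H ⧸ R) :=
    Cfsg.Agent.Lib.Helper69.isPSolvable_of_surj p π hπs hsol
  have hOpΓ : pCore p (H ⧸ R) = ⊥ := Cfsg.Agent.Lib.Helper46.BPS.pCore_quot_eq_bot p
  set U : Subgroup (H ⧸ R) := S.map π with hUdef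
  have hUc : ∀ x ∈ U, ∀ y ∈ U, x * y = y * x := by
    rintro _ ⟨a, ha, rfl⟩ _ ⟨b, hb, rfl⟩
    have h1 : π (a * b * a⁻¹ * b⁻¹) = 1 := (hπ1 _).2 (hZR (hS.comm a ha b hb))
    have e : a * b = (a * b * a⁻¹ * b⁻¹) * (b * a) := by group
    rw [← map_mul, e, map_mul, h1, one_mul, map_mul]
  have hUe : ∀ x ∈ U, x ^ p = 1 := by
    rintro _ ⟨a, ha, rfl⟩
    rw [← map_pow]
    exact (hπ1 _).2 (hZR (hS.pow a ha))
  have hUp : IsPGroup p U := by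
    intro x
    refine ⟨1, Subtype.ext ?_⟩
    rw [pow_one]
    exact hUe x x.2
  -- the action on `W`
  letI : CommGroup ↥W :=
    { (inferInstance : Group ↥W) with
      mul_comm := fun a b => Subtype.ext (hWcomm a a.2 b b.2) }
  let ρ₀ : H →* MulAut ↥W := MulAut.conjNormal
  have hρ₀ : ∀ (g : H) (w : ↥W), ((ρ₀ g w : ↥W) : H) = g * w * g⁻¹ := fun g w => rfl
  have hker : R ≤ ρ₀.ker := by
    intro r hr
    rw [MonoidHom.mem_ker]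
    apply MulEquiv.ext
    intro w
    apply Subtype.ext
    rw [hρ₀]
    show r * (w : H) * r⁻¹ = w
    rw [hWcR w w.2 r hr]; group
  let ρ : H ⧸ R →* MulAut ↥W := QuotientGroup.lift R ρ₀ hker
  have hρ : ∀ (g : H) (w : ↥W), ((ρ (π g) w : ↥W) : H) = g * w * g⁻¹ := fun g w => rfl
  have hWpg : IsPGroup p ↥W := hRp.to_le hWR
  set Z' : Subgroup ↥W := Z.subgroupOf W with hZ'def
  have h1 : ∀ s ∈ U, ∀ w : ↥W, ρ s w * w⁻¹ ∈ Z' := by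
    rintro _ ⟨a, ha, rfl⟩ w
    show a * (w : H) * a⁻¹ * (w : H)⁻¹ ∈ Z
    exact hS.comm a ha w (hWS w.2)
  have h2 : ∀ s ∈ U, ∀ z ∈ Z', ρ s z = z := by
    rintro _ ⟨a, ha, rfl⟩ z hz
    apply Subtype.ext
    show a * (z : H) * a⁻¹ = z
    have := hZc z hz a ha
    rw [this]; group
  have h3 : ∀ w : ↥W, w ∉ Z' → ∀ z ∈ Z', ∃ s ∈ U, ρ s w * w⁻¹ = z := by
    intro w hw z hz
    have hwZ : (w : H) ∉ Z := hw
    have hzZ : (z : H) ∈ Z := hz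
    obtain ⟨s, hs, hsz⟩ := hS.camina w (hWS w.2) hwZ (z : H)⁻¹ (Z.inv_mem hzZ)
    refine ⟨π s, ⟨s, hs, rfl⟩, Subtype.ext ?_⟩
    show s * (w : H) * s⁻¹ * (w : H)⁻¹ = z
    have e : s * (w : H) * s⁻¹ * (w : H)⁻¹ = ((w : H) * s * (w : H)⁻¹ * s⁻¹)⁻¹ := by group
    rw [e, hsz, inv_inv]
  have h4 : Z' ≠ ⊥ := by
    intro hbot
    apply hx₀Z
    rw [mem_Zc]
    refine ⟨hx₀S, fun s hs => ?_⟩
    have hc : s * x₀ * s⁻¹ * x₀⁻¹ ∈ Z := hS.comm s hs x₀ hx₀S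
    have hc' : (⟨s * x₀ * s⁻¹ * x₀⁻¹, hZW hc⟩ : ↥W) ∈ Z' := hc
    rw [hbot, Subgroup.mem_bot] at hc'
    have hc1 : s * x₀ * s⁻¹ * x₀⁻¹ = 1 := congrArg Subtype.val hc'
    calc s * x₀ = (s * x₀ * s⁻¹ * x₀⁻¹) * (x₀ * s) := by group
      _ = x₀ * s := by rw [hc1, one_mul]
  have hρtriv : ∀ g : H, ρ (π g) = 1 → ∀ w ∈ W, g * w = w * g := by
    intro g hg w hw
    have h5 : ((ρ (π g) ⟨w, hw⟩ : ↥W) : H) = w := by rw [hg]; rfl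
    rw [hρ] at h5
    calc g * w = (g * w * g⁻¹) * g := by group
      _ = w * g := by rw [h5]
  have h5 : ∀ s ∈ U, ρ s = 1 → s = 1 := by
    rintro _ ⟨a, ha, rfl⟩ hρa
    exact (hπ1 a).2 (hNW a (hSN₂ ha) (hρtriv a hρa))
  -- a `q`-group normalized and not centralized
  obtain ⟨q, hq, Q, hqp, hQq, hUQ, hyQ⟩ :=
    Cfsg.Agent.Lib.Helper54.exists_normalized_not_centralized_of_mem hsolΓ hOpΓ U hUp (π x₀)
      ⟨x₀, hx₀S, rfl⟩ (fun h => hx₀R ((hπ1 x₀).1 h))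
  haveI : Fact q.Prime := ⟨hq⟩
  have hK : ¬ p ∣ Nat.card Q := by
    obtain ⟨n, hn⟩ := IsPGroup.iff_card.1 hQq
    rw [hn]
    intro h
    exact hqp ((Nat.prime_dvd_prime_iff_eq hp hq).1 (hp.dvd_of_dvd_pow h)).symm
  rw [Subgroup.mem_centralizer_iff] at hyQ
  push Not at hyQ
  obtain ⟨k, hkQ, hk⟩ := hyQ
  have hcommN : ∀ k' : H, ∀ t ∈ S, k' * t * k'⁻¹ * t⁻¹ ∈ stabSub p W := fun k' t ht =>
    (stabSub p W).mul_mem (hN₂n.conj_mem t (hSN₂ ht) k') ((stabSub p W).inv_mem (hSN₂ ht))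
  have hρne : ρ (k * π x₀ * k⁻¹ * (π x₀)⁻¹) ≠ 1 := by
    intro hρ1
    apply hk
    obtain ⟨k', rfl⟩ := hπs k
    have e : π k' * π x₀ * (π k')⁻¹ * (π x₀)⁻¹ = π (k' * x₀ * k'⁻¹ * x₀⁻¹) := by
      rw [map_mul, map_mul, map_mul, map_inv, map_inv]
    rw [e] at hρ1
    have h6 := hNW _ (hcommN k' x₀ hx₀S) (hρtriv _ hρ1)
    have h7 : π (k' * x₀ * k'⁻¹ * x₀⁻¹) = 1 := (hπ1 _).2 h6
    rw [← e] at h7
    calc π k' * π x₀ = (π k' * π x₀ * (π k')⁻¹ * (π x₀)⁻¹) * (π x₀ * π k') := by group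
      _ = π x₀ * π k' := by rw [h7, one_mul]
  have h6 : ∃ k ∈ Q, ∃ t ∈ U, ρ (k * t * k⁻¹ * t⁻¹) ≠ 1 :=
    ⟨k, hkQ, π x₀, ⟨x₀, hx₀S, rfl⟩, hρne⟩
  have hcyc : IsCyclic U :=
    cyclic_of_camina_action ρ hWpg U Q Z' hUc hUe hK hUQ h1 h2 h3 h4 h5 h6
  -- a generator of `S` modulo `R`
  obtain ⟨⟨u, hu⟩, hgen⟩ := hcyc.exists_generator
  obtain ⟨x, hxS, rfl⟩ := hu
  have hSx : ∀ s ∈ S, ∃ i : ℕ, ∃ r ∈ R, s = x ^ i * r := by
    intro s hs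
    have h7 := hgen ⟨π s, ⟨s, hs, rfl⟩⟩
    rw [← mem_powers_iff_mem_zpowers] at h7
    obtain ⟨i, hi⟩ := h7
    have hi' : π x ^ i = π s := congrArg Subtype.val hi
    refine ⟨i, (x ^ i)⁻¹ * s, ?_, by group⟩
    rw [← hπ1, map_mul, map_inv, map_pow, hi', inv_mul_cancel]
  -- an element of `W` outside `Z`
  have hexw : ∃ w₀ ∈ W, w₀ ∉ Z := by
    by_contra hcon
    push Not at hcon
    apply hx₀R
    apply hNW x₀ (hSN₂ hx₀S)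
    intro w hw
    exact hZc w (hcon w hw) x₀ hx₀S
  obtain ⟨w₀, hw₀W, hw₀Z⟩ := hexw
  have hz₀Z : x * w₀ * x⁻¹ * w₀⁻¹ ∈ Z := hS.comm x hxS w₀ (hWS hw₀W)
  -- commutators with `W` are powers of the commutator with `x`
  have hA : ∀ w ∈ W, ∀ s ∈ S, ∃ i : ℕ, s * w * s⁻¹ * w⁻¹ = (x * w * x⁻¹ * w⁻¹) ^ i := by
    intro w hw s hs
    obtain ⟨i, r, hr, rfl⟩ := hSx s hs
    refine ⟨i, ?_⟩
    have hc : x * (x * w * x⁻¹ * w⁻¹) = (x * w * x⁻¹ * w⁻¹) * x :=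
      hZc _ (hS.comm x hxS w (hWS hw)) x hxS
    rw [← comm_pow_left hc i]
    have hrw : r * w = w * r := hWcR w hw r hr
    calc x ^ i * r * w * (x ^ i * r)⁻¹ * w⁻¹ = x ^ i * (r * w) * r⁻¹ * (x ^ i)⁻¹ * w⁻¹ := by
          group
      _ = x ^ i * (w * r) * r⁻¹ * (x ^ i)⁻¹ * w⁻¹ := by rw [hrw]
      _ = x ^ i * w * (x ^ i)⁻¹ * w⁻¹ := by group
  have hZpow : ∀ z ∈ Z, ∃ i : ℕ, z = (x * w₀ * x⁻¹ * w₀⁻¹) ^ i := by
    intro z hz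
    obtain ⟨s, hs, hsz⟩ := hS.camina w₀ (hWS hw₀W) hw₀Z z⁻¹ (Z.inv_mem hz)
    obtain ⟨i, hi⟩ := hA w₀ hw₀W s hs
    refine ⟨i, ?_⟩
    rw [← hi]
    have e : s * w₀ * s⁻¹ * w₀⁻¹ = (w₀ * s * w₀⁻¹ * s⁻¹)⁻¹ := by group
    rw [e, hsz, inv_inv]
  -- `W = ⟨w₀⟩ Z`
  have hB : ∀ w ∈ W, ∃ j : ℕ, ∃ z ∈ Z, w = w₀ ^ j * z := by
    intro w hw
    obtain ⟨j, hj⟩ := hZpow (x * w * x⁻¹ * w⁻¹) (hS.comm x hxS w (hWS hw))
    have hvW : w * (w₀ ^ j)⁻¹ ∈ W := W.mul_mem hw (W.inv_mem (W.pow_mem hw₀W j))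
    have hz₀w₀ : Commute (x * w₀ * x⁻¹ * w₀⁻¹) w₀ := hWcomm _ (hZW hz₀Z) w₀ hw₀W
    have h7 : x * w₀ ^ j * x⁻¹ = (x * w₀ * x⁻¹ * w₀⁻¹) ^ j * w₀ ^ j := by
      rw [← hz₀w₀.mul_pow, ← conj_pow]
      congr 1
      group
    have h8 : x * w * x⁻¹ = (x * w₀ * x⁻¹ * w₀⁻¹) ^ j * w := by
      rw [← hj]; group
    have hzjZ : (x * w₀ * x⁻¹ * w₀⁻¹) ^ j ∈ Z := Z.pow_mem hz₀Z j
    have h9 : x * (w * (w₀ ^ j)⁻¹) * x⁻¹ = w * (w₀ ^ j)⁻¹ := by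
      have e : x * (w * (w₀ ^ j)⁻¹) * x⁻¹ = (x * w * x⁻¹) * (x * w₀ ^ j * x⁻¹)⁻¹ := by group
      rw [e, h7, h8]
      have hc := hZc _ hzjZ (w * (w₀ ^ j)⁻¹) (hWS hvW)
      calc (x * w₀ * x⁻¹ * w₀⁻¹) ^ j * w * ((x * w₀ * x⁻¹ * w₀⁻¹) ^ j * w₀ ^ j)⁻¹
          = (x * w₀ * x⁻¹ * w₀⁻¹) ^ j * (w * (w₀ ^ j)⁻¹) * ((x * w₀ * x⁻¹ * w₀⁻¹) ^ j)⁻¹ := by
            group
        _ = (w * (w₀ ^ j)⁻¹) * (x * w₀ * x⁻¹ * w₀⁻¹) ^ j * ((x * w₀ * x⁻¹ * w₀⁻¹) ^ j)⁻¹ := by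
            rw [← hc]
        _ = w * (w₀ ^ j)⁻¹ := by group
    have hxv : Commute x (w * (w₀ ^ j)⁻¹) := by
      show x * (w * (w₀ ^ j)⁻¹) = w * (w₀ ^ j)⁻¹ * x
      calc x * (w * (w₀ ^ j)⁻¹) = (x * (w * (w₀ ^ j)⁻¹) * x⁻¹) * x := by group
        _ = w * (w₀ ^ j)⁻¹ * x := by rw [h9]
    have hvZ : w * (w₀ ^ j)⁻¹ ∈ Z := by
      rw [hZdef, mem_Zc]
      refine ⟨hWS hvW, fun s hs => ?_⟩
      obtain ⟨i, r, hr, rfl⟩ := hSx s hs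
      have h10 : Commute r (w * (w₀ ^ j)⁻¹) := hWcR _ hvW r hr
      exact ((hxv.pow_left i).mul_left h10).eq
    refine ⟨j, w * (w₀ ^ j)⁻¹, hvZ, ?_⟩
    have h11 : Commute (w₀ ^ j) (w * (w₀ ^ j)⁻¹) := hWcomm _ (W.pow_mem hw₀W j) _ hvW
    rw [h11.eq]; group
  -- `Z' ≠ ⊤`
  have hZ'top : Z' ≠ ⊤ := by
    intro htop
    apply hw₀Z
    have : (⟨w₀, hw₀W⟩ : ↥W) ∈ Z' := htop ▸ Subgroup.mem_top _
    exact this
  -- the commutator subgroup `[Q, U]` has no fixed points on `W`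
  have hUQ' : ∀ t ∈ U, ∀ k ∈ Q, t * k * t⁻¹ ∈ Q := fun t ht k hk =>
    (Subgroup.mem_normalizer_iff.1 (hUQ ht) k).1 hk
  have hDQ : commSub Q U ≤ Q := commSub_le hUQ'
  have hDp : ¬ p ∣ Nat.card (commSub Q U) := fun h => hK (h.trans (Subgroup.card_dvd_of_le hDQ))
  have hfix : fixOf ρ (commSub Q U) = ⊥ :=
    fixOf_eq_bot_of_camina ρ hWpg U (commSub Q U) Z' hDp (commSub_conj hUc hUQ') h3 h4 hZ'top
      ⟨_, comm_mem_commSub hkQ ⟨x₀, hx₀S, rfl⟩, hρne⟩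
  have hDN : commSub Q U ≤ (stabSub p W).map π := by
    unfold commSub
    rw [Subgroup.closure_le]
    rintro _ ⟨k₁, _, _, ⟨t, ht, rfl⟩, rfl⟩
    obtain ⟨k', rfl⟩ := hπs k₁
    refine ⟨k' * t * k'⁻¹ * t⁻¹, hcommN k' t ht, ?_⟩
    rw [map_mul, map_mul, map_mul, map_inv, map_inv]
  have hfixN : ∀ v ∈ W, (∀ g ∈ stabSub p W, g * v * g⁻¹ = v) → v = 1 := by
    intro v hv hvg
    have h12 : (⟨v, hv⟩ : ↥W) ∈ fixOf ρ (commSub Q U) := by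
      intro d hd
      obtain ⟨g, hg, rfl⟩ := hDN hd
      apply Subtype.ext
      rw [hρ]
      exact hvg g hg
    rw [hfix, Subgroup.mem_bot] at h12
    exact congrArg Subtype.val h12
  -- `R` is elementary abelian, hence `R = W`
  have hconjR : ∀ g ∈ stabSub p W, ∀ r ∈ R, g * r * g⁻¹ = (g * r * g⁻¹ * r⁻¹) * r := by
    intro g _ r _
    group
  have hRab : ∀ r₁ ∈ R, ∀ r₂ ∈ R, r₁ * r₂ * r₁⁻¹ * r₂⁻¹ = 1 := by
    intro r₁ hr₁ r₂ hr₂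
    apply hfixN _ (hZW (hS.comm r₁ (hRS hr₁) r₂ (hRS hr₂)))
    intro g hg
    have e : g * (r₁ * r₂ * r₁⁻¹ * r₂⁻¹) * g⁻¹ =
        (g * r₁ * g⁻¹) * (g * r₂ * g⁻¹) * (g * r₁ * g⁻¹)⁻¹ * (g * r₂ * g⁻¹)⁻¹ := by group
    rw [e, hconjR g hg r₁ hr₁, hconjR g hg r₂ hr₂]
    have hw₁ : g * r₁ * g⁻¹ * r₁⁻¹ ∈ W := hg r₁ hr₁
    have hw₂ : g * r₂ * g⁻¹ * r₂⁻¹ ∈ W := hg r₂ hr₂
    exact comm_mul_central (hWcR _ hw₁ r₁ hr₁).symm (hWcR _ hw₁ r₂ hr₂).symm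
      (hWcR _ hw₂ r₁ hr₁).symm (hWcR _ hw₂ r₂ hr₂).symm (hWcomm _ hw₁ _ hw₂)
  have hRexp : ∀ r ∈ R, r ^ p = 1 := by
    intro r hr
    apply hfixN _ (hZW (hS.pow r (hRS hr)))
    intro g hg
    have hw : g * r * g⁻¹ * r⁻¹ ∈ W := hg r hr
    have hc : Commute (g * r * g⁻¹ * r⁻¹) r := (hWcR _ hw r hr).symm
    rw [← conj_pow, hconjR g hg r hr, hc.mul_pow, hWp _ hw, one_mul]
  have hRW : R ≤ W := by
    intro r hr
    refine ⟨hr, fun r' hr' => ?_, hRexp r hr⟩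
    have := hRab r' hr' r hr
    calc r' * r = (r' * r * r'⁻¹ * r⁻¹) * (r * r') := by group
      _ = r * r' := by rw [this, one_mul]
  -- `S` is generated by two elements modulo its centre
  have hD : ∀ g ∈ S, ∃ i j : ℕ, ∃ z ∈ Zc S, g = x ^ i * w₀ ^ j * z := by
    intro s hs
    obtain ⟨i, r, hr, rfl⟩ := hSx s hs
    obtain ⟨j, z, hz, rfl⟩ := hB r (hRW hr)
    exact ⟨i, j, z, hz, by rw [mul_assoc]⟩
  rcases hp23 with h | h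
  · exact hw₀Z (hS.two h ⟨x, hxS, w₀, hWS hw₀W, hD⟩ w₀ (hWS hw₀W) (by rw [← h]; exact hWp w₀ hw₀W))
  · exact hS.three h ⟨x, hxS, w₀, hWS hw₀W, hD⟩

/-- **Core theorem**: in a `p`-soluble group with `O_{p'} = 1`, a Sylow `p`-subgroup of Schmidt
type (abelian, or Schmidt-special) is normal (equal to `O_p`). -/
theorem sylow_le_pCore_of_schmidtType {H : Type*} [Group H] [Finite H] {p : ℕ} [Fact p.Prime]
    (hsol : IsPSolvable p H) (h0 : pPrimeCore p H = ⊥) (P : Sylow p H)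
    (hS : SchmidtType p ↥(P : Subgroup H)) : (P : Subgroup H) ≤ pCore p H := by
  rcases hS with hab | hsp
  · have hCR : Subgroup.centralizer (pCore p H : Set H) ≤ pCore p H :=
      Cfsg.Agent.Lib.Helper63.centralizer_pCore_le h0
        (Cfsg.Agent.Lib.Helper63.exists_plengthLE_of_isPSolvable hsol)
    intro s hs
    apply hCR
    rw [Subgroup.mem_centralizer_iff]
    intro r hr
    have hrS : r ∈ (P : Subgroup H) := Cfsg.Agent.Lib.Helper63.pCore_le_sylow' p P hr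
    exact congrArg Subtype.val (hab ⟨r, hrS⟩ ⟨s, hs⟩)
  · exact le_pCore_of_specIn hsol h0 P (specIn_of_schmidtSpecial hsp)

end Cfsg.Agent.Lib.Helper97.PL
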