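import Mathlib
import Cfsg.Prelude.Def_Local
import Cfsg.Agent.Lib.Helper97.PL.Defs
import Cfsg.Agent.Lib.Helper97.PL.Stab
import Cfsg.Agent.Lib.Helper87.PGroupFrattini

/-!
# The Schmidt side: structure of a `p`-group with a "Schmidt automorphism" (helper97)

`P` is a finite `p`-group and `φ` an automorphism with `φ ^ q = 1` (`q ≠ p` prime), `φ ≠ 1`, such
that every proper `φ`-invariant subgroup of `P` is fixed pointwise by `φ`. Then `P` is of Schmidt
type.
-/

set_option autoImplicit false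

namespace Cfsg.Agent.Lib.Helper97.PL

open Cfsg

section

variable {P : Type*} [Group P] [Finite P] {p q : ℕ} [Fact p.Prime]

theorem mem_of_pow_q_mem (hP : IsPGroup p P) (hq : q.Prime) (hqp : q ≠ p) (K : Subgroup P)
    (g : P) (h : g ^ q ∈ K) : g ∈ K := by
  obtain ⟨k, hk⟩ := hP g
  have hcop : q.Coprime (orderOf g) := by
    have h1 : orderOf g ∣ p ^ k := orderOf_dvd_of_pow_eq_one hk
    exact Nat.Coprime.coprime_dvd_right h1
      (Nat.Coprime.pow_right k ((Nat.coprime_primes hq (Fact.out : p.Prime)).2 hqp))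
  obtain ⟨m, hm⟩ := exists_pow_eq_self_of_coprime hcop
  rw [← hm]
  exact K.pow_mem h m

/-- The structure shared by all the lemmas below. -/
structure SchAut (p q : ℕ) (φ : MulAut P) : Prop where
  hq : q.Prime
  hqp : q ≠ p
  hP : IsPGroup p P
  s1 : ∀ Y : Subgroup P, Y ≠ ⊤ → (∀ y ∈ Y, φ y ∈ Y) → ∀ y ∈ Y, φ y = y
  s2 : φ ≠ 1
  s3 : φ ^ q = 1

variable {φ : MulAut P}

theorem SchAut.gen_top (h : SchAut p q φ) :
    Subgroup.closure {u : P | ∃ g : P, u = g⁻¹ * φ g} = ⊤ := by
  by_contra hne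
  set T := Subgroup.closure {u : P | ∃ g : P, u = g⁻¹ * φ g} with hT
  have hinv : ∀ y ∈ T, φ y ∈ T := by
    have h7 : T ≤ T.comap (φ : P ≃* P).toMonoidHom := by
      rw [hT, Subgroup.closure_le]
      rintro _ ⟨g, rfl⟩
      show φ (g⁻¹ * φ g) ∈ Subgroup.closure _
      apply Subgroup.subset_closure
      exact ⟨φ g, by rw [map_mul, map_inv]⟩
    exact fun y hy => h7 hy
  have hfix := h.s1 T hne hinv
  apply h.s2
  apply MulEquiv.ext
  intro g
  have hu : g⁻¹ * φ g ∈ T := Subgroup.subset_closure ⟨g, rfl⟩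
  have hufix := hfix _ hu
  have hφg : φ g = g * (g⁻¹ * φ g) := by rw [mul_inv_cancel_left]
  have hpow : ∀ n : ℕ, (φ ^ n) g = g * (g⁻¹ * φ g) ^ n := by
    intro n
    induction n with
    | zero => simp
    | succ n ih =>
      rw [pow_succ', MulAut.mul_apply, ih, map_mul, map_pow, hufix]
      calc φ g * (g⁻¹ * φ g) ^ n = g * (g⁻¹ * φ g) * (g⁻¹ * φ g) ^ n := by rw [← hφg]
        _ = g * (g⁻¹ * φ g) ^ (n + 1) := by rw [mul_assoc, ← pow_succ']
  have h1 := hpow q
  rw [h.s3, MulAut.one_apply] at h1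
  have h2 : (g⁻¹ * φ g) ^ q = 1 := by
    exact mul_left_cancel (a := g) (by rw [← h1, mul_one])
  have h3 : g⁻¹ * φ g = 1 := by
    have := mem_of_pow_q_mem h.hP h.hq h.hqp ⊥ (g⁻¹ * φ g) (by rw [h2]; exact Subgroup.one_mem _)
    exact Subgroup.mem_bot.1 this
  rw [MulAut.one_apply]
  exact (inv_mul_eq_one.1 h3).symm

theorem SchAut.le_center (h : SchAut p q φ) (Y : Subgroup P) (hYn : Y.Normal) (hYt : Y ≠ ⊤)
    (hYφ : ∀ y ∈ Y, φ y ∈ Y) : Y ≤ Subgroup.center P := by
  have hfix := h.s1 Y hYt hYφ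
  intro y hy
  rw [Subgroup.mem_center_iff]
  have hle : Subgroup.closure {u : P | ∃ g : P, u = g⁻¹ * φ g} ≤
      Subgroup.centralizer ({y} : Set P) := by
    rw [Subgroup.closure_le]
    rintro _ ⟨g, rfl⟩
    rw [SetLike.mem_coe, Subgroup.mem_centralizer_iff]
    intro y' hy'
    rw [Set.mem_singleton_iff] at hy'
    subst hy'
    have h1 : φ (g * y' * g⁻¹) = g * y' * g⁻¹ := hfix _ (hYn.conj_mem y' hy g)
    rw [map_mul, map_mul, map_inv, hfix y' hy] at h1
    calc y' * (g⁻¹ * φ g) = g⁻¹ * (g * y' * g⁻¹) * φ g := by group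
      _ = g⁻¹ * (φ g * y' * (φ g)⁻¹) * φ g := by rw [h1]
      _ = g⁻¹ * φ g * y' := by group
  intro g
  have h2 : g ∈ Subgroup.centralizer ({y} : Set P) := hle (by rw [h.gen_top]; exact Subgroup.mem_top g)
  exact (Subgroup.mem_centralizer_iff.1 h2 y (Set.mem_singleton y)).symm

theorem SchAut.frattini_le_center (h : SchAut p q φ) (hna : ¬ ∀ a b : P, a * b = b * a) :
    frattini P ≤ Subgroup.center P := by
  haveI : Nontrivial P := by
    by_contra hnt
    rw [not_nontrivial_iff_subsingleton] at hnt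
    exact hna (fun a b => Subsingleton.elim _ _)
  apply h.le_center (frattini P) inferInstance
  · intro htop
    obtain ⟨M, hM⟩ : ∃ M : Subgroup P, IsCoatom M := by
      obtain ⟨M, hM, -⟩ := (eq_top_or_exists_le_coatom (⊥ : Subgroup P)).resolve_left bot_ne_top
      exact ⟨M, hM⟩
    exact hM.1 (top_le_iff.1 (htop ▸ frattini_le_coatom hM))
  · intro y hy
    have hchar : (frattini P).Characteristic := frattini_characteristic
    have := (Subgroup.characteristic_iff_map_eq.1 hchar) φ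
    rw [← this]
    exact Subgroup.mem_map_of_mem _ hy

theorem SchAut.comm_mem_center (h : SchAut p q φ) (hna : ¬ ∀ a b : P, a * b = b * a) (a b : P) :
    a * b * a⁻¹ * b⁻¹ ∈ Subgroup.center P :=
  h.frattini_le_center hna (Cfsg.Agent.Lib.Helper87.comm_mem_frattini h.hP a b)

theorem SchAut.pow_mem_center (h : SchAut p q φ) (hna : ¬ ∀ a b : P, a * b = b * a) (a : P) :
    a ^ p ∈ Subgroup.center P :=
  h.frattini_le_center hna (Cfsg.Agent.Lib.Helper87.pow_p_mem_frattini h.hP a)

theorem SchAut.center_fixed (h : SchAut p q φ) (hna : ¬ ∀ a b : P, a * b = b * a) :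
    ∀ z ∈ Subgroup.center P, φ z = z := by
  apply h.s1
  · intro htop
    apply hna
    intro a b
    have : b ∈ Subgroup.center P := htop ▸ Subgroup.mem_top b
    exact Subgroup.mem_center_iff.1 this a
  · intro y hy
    have hchar : (Subgroup.center P).Characteristic := inferInstance
    have := (Subgroup.characteristic_iff_map_eq.1 hchar) φ
    rw [← this]
    exact Subgroup.mem_map_of_mem _ hy

/-- The norm map to the abelianization is trivial. -/
theorem SchAut.norm_eq_one (h : SchAut p q φ) (g : P) :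
    ∏ i ∈ Finset.range q, (Abelianization.of ((φ ^ i) g) : Abelianization P) = 1 := by
  set N : P →* Abelianization P :=
    ∏ i ∈ Finset.range q, (Abelianization.of.comp ((φ ^ i : MulAut P) : P ≃* P).toMonoidHom)
    with hN
  have hNapp : ∀ g : P, N g = ∏ i ∈ Finset.range q, (Abelianization.of ((φ ^ i) g)) := by
    intro g
    rw [hN, MonoidHom.finsetProd_apply]
    rfl
  have hNφ : ∀ g : P, N (φ g) = N g := by
    intro g
    rw [hNapp, hNapp]
    have e1 : ∀ i : ℕ, (φ ^ i) (φ g) = (φ ^ (i + 1)) g := by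
      intro i
      rw [pow_succ, MulAut.mul_apply]
    simp_rw [e1]
    have h1 := Finset.prod_range_succ (fun i => (Abelianization.of ((φ ^ i) g) : Abelianization P)) q
    have h2 := Finset.prod_range_succ' (fun i => (Abelianization.of ((φ ^ i) g) : Abelianization P)) q
    rw [h1] at h2
    have h3 : (Abelianization.of ((φ ^ q) g) : Abelianization P) = Abelianization.of ((φ ^ 0) g) := by
      rw [h.s3, pow_zero]
    rw [h3] at h2
    exact (mul_right_cancel h2).symm
  have hker : N.ker = ⊤ := by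
    rw [eq_top_iff, ← h.gen_top, Subgroup.closure_le]
    rintro _ ⟨g, rfl⟩
    show N (g⁻¹ * φ g) = 1
    rw [map_mul, map_inv, hNφ, inv_mul_cancel]
  rw [← hNapp]
  exact MonoidHom.mem_ker.1 (hker ▸ Subgroup.mem_top g)

theorem SchAut.commutator_le_center (h : SchAut p q φ) (hna : ¬ ∀ a b : P, a * b = b * a) :
    commutator P ≤ Subgroup.center P := by
  rw [commutator_eq_closure, Subgroup.closure_le]
  rintro _ ⟨a, b, rfl⟩
  rw [commutatorElement_def]
  exact h.comm_mem_center hna a b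

theorem SchAut.center_le_commutator (h : SchAut p q φ) (hna : ¬ ∀ a b : P, a * b = b * a) :
    Subgroup.center P ≤ commutator P := by
  intro z hz
  have hzfix := h.center_fixed hna z hz
  have h1 := h.norm_eq_one z
  have h2 : ∀ i : ℕ, (φ ^ i) z = z := by
    intro i
    induction i with
    | zero => simp
    | succ i ih => rw [pow_succ, MulAut.mul_apply, hzfix, ih]
  simp_rw [h2] at h1
  rw [Finset.prod_const, Finset.card_range, ← map_pow] at h1
  have h3 : z ^ q ∈ commutator P := by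
    rw [← Abelianization.ker_of]
    exact MonoidHom.mem_ker.2 h1
  exact mem_of_pow_q_mem h.hP h.hq h.hqp _ z h3

/-- (F1): an element fixed modulo the centre is central. -/
theorem SchAut.mem_center_of_fixed_mod (h : SchAut p q φ) (hna : ¬ ∀ a b : P, a * b = b * a)
    (g : P) (hg : g⁻¹ * φ g ∈ Subgroup.center P) : g ∈ Subgroup.center P := by
  have hzfix := h.center_fixed hna _ hg
  have hφg : φ g = g * (g⁻¹ * φ g) := by rw [mul_inv_cancel_left]
  have hpow : ∀ n : ℕ, (φ ^ n) g = g * (g⁻¹ * φ g) ^ n := by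
    intro n
    induction n with
    | zero => simp
    | succ n ih =>
      rw [pow_succ', MulAut.mul_apply, ih, map_mul, map_pow, hzfix]
      calc φ g * (g⁻¹ * φ g) ^ n = g * (g⁻¹ * φ g) * (g⁻¹ * φ g) ^ n := by rw [← hφg]
        _ = g * (g⁻¹ * φ g) ^ (n + 1) := by rw [mul_assoc, ← pow_succ']
  have hof : (Abelianization.of (g⁻¹ * φ g) : Abelianization P) = 1 := by
    have : g⁻¹ * φ g ∈ (Abelianization.of : P →* Abelianization P).ker := by
      rw [Abelianization.ker_of]
      exact h.center_le_commutator hna hg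
    exact MonoidHom.mem_ker.1 this
  have h1 := h.norm_eq_one g
  have h2 : ∀ i : ℕ, (Abelianization.of ((φ ^ i) g) : Abelianization P) = Abelianization.of g := by
    intro i
    rw [hpow, map_mul, map_pow, hof, one_pow, mul_one]
  simp_rw [h2] at h1
  rw [Finset.prod_const, Finset.card_range, ← map_pow] at h1
  have h3 : g ^ q ∈ Subgroup.center P := by
    apply h.commutator_le_center hna
    rw [← Abelianization.ker_of]
    exact MonoidHom.mem_ker.2 h1
  exact mem_of_pow_q_mem h.hP h.hq h.hqp _ g h3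

/-- A subgroup containing the centre is normal. -/
theorem SchAut.normal_of_center_le (h : SchAut p q φ) (hna : ¬ ∀ a b : P, a * b = b * a)
    (Y : Subgroup P) (hZY : Subgroup.center P ≤ Y) : Y.Normal := by
  refine ⟨fun y hy x => ?_⟩
  have h1 : x * y * x⁻¹ = (x * y * x⁻¹ * y⁻¹) * y := by group
  rw [h1]
  exact Y.mul_mem (hZY (h.comm_mem_center hna x y)) hy

omit [Finite P] in
theorem exists_not_mem_center_of_not_comm (hna : ¬ ∀ a b : P, a * b = b * a) :
    ∃ g : P, g ∉ Subgroup.center P := by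
  by_contra hall
  push_neg at hall
  exact hna (fun a b => Subgroup.mem_center_iff.1 (hall b) a)

omit [Finite P] in
theorem comm_mul_right_of_class2
    (hc : ∀ a b : P, a * b * a⁻¹ * b⁻¹ ∈ Subgroup.center P) (a s t : P) :
    a * (s * t) * a⁻¹ * (s * t)⁻¹ = (a * s * a⁻¹ * s⁻¹) * (a * t * a⁻¹ * t⁻¹) := by
  have h1 := Subgroup.mem_center_iff.1 (hc a t) s⁻¹
  calc a * (s * t) * a⁻¹ * (s * t)⁻¹ = a * s * a⁻¹ * ((a * t * a⁻¹ * t⁻¹) * s⁻¹) := by group
    _ = a * s * a⁻¹ * (s⁻¹ * (a * t * a⁻¹ * t⁻¹)) := by rw [h1]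
    _ = (a * s * a⁻¹ * s⁻¹) * (a * t * a⁻¹ * t⁻¹) := by group

omit [Finite P] in
theorem comm_mul_left_of_class2
    (hc : ∀ a b : P, a * b * a⁻¹ * b⁻¹ ∈ Subgroup.center P) (a b s : P) :
    (a * b) * s * (a * b)⁻¹ * s⁻¹ = (a * s * a⁻¹ * s⁻¹) * (b * s * b⁻¹ * s⁻¹) := by
  have h1 := Subgroup.mem_center_iff.1 (hc b s) a
  have h2 := Subgroup.mem_center_iff.1 (hc b s) (a * s * a⁻¹ * s⁻¹)
  calc (a * b) * s * (a * b)⁻¹ * s⁻¹ = (a * (b * s * b⁻¹ * s⁻¹)) * s * a⁻¹ * s⁻¹ := by group
    _ = ((b * s * b⁻¹ * s⁻¹) * a) * s * a⁻¹ * s⁻¹ := by rw [h1]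
    _ = (b * s * b⁻¹ * s⁻¹) * (a * s * a⁻¹ * s⁻¹) := by group
    _ = (a * s * a⁻¹ * s⁻¹) * (b * s * b⁻¹ * s⁻¹) := h2.symm

/-- The Camina property. -/
theorem SchAut.camina (h : SchAut p q φ) (hna : ¬ ∀ a b : P, a * b = b * a) (g : P)
    (hg : g ∉ Subgroup.center P) (z : P) (hz : z ∈ Subgroup.center P) :
    ∃ s : P, g * s * g⁻¹ * s⁻¹ = z := by
  have hc := h.comm_mem_center hna
  let I : Subgroup P :=
    { carrier := {z | ∃ s : P, g * s * g⁻¹ * s⁻¹ = z}
      one_mem' := ⟨1, by group⟩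
      mul_mem' := by
        rintro _ _ ⟨s, rfl⟩ ⟨t, rfl⟩
        exact ⟨s * t, comm_mul_right_of_class2 hc g s t⟩
      inv_mem' := by
        rintro _ ⟨s, rfl⟩
        refine ⟨s⁻¹, ?_⟩
        have h2 : (g * s * g⁻¹ * s⁻¹) * (g * s⁻¹ * g⁻¹ * s⁻¹⁻¹) = 1 := by
          rw [← comm_mul_right_of_class2 hc g s s⁻¹]
          group
        exact eq_inv_of_mul_eq_one_right h2 }
  have hI : ∀ x : P, x ∈ I ↔ ∃ s : P, g * s * g⁻¹ * s⁻¹ = x := fun x => Iff.rfl
  let Y : Subgroup P :=
    { carrier := {y | ∀ s : P, y * s * y⁻¹ * s⁻¹ ∈ I}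
      one_mem' := fun s => by
        have h1 : (1 : P) * s * 1⁻¹ * s⁻¹ = 1 := by group
        rw [h1]
        exact I.one_mem
      mul_mem' := by
        intro a b ha hb s
        rw [comm_mul_left_of_class2 hc a b s]
        exact I.mul_mem (ha s) (hb s)
      inv_mem' := by
        intro a ha s
        have h2 : (a * s * a⁻¹ * s⁻¹) * (a⁻¹ * s * a⁻¹⁻¹ * s⁻¹) = 1 := by
          rw [← comm_mul_left_of_class2 hc a a⁻¹ s]
          group
        rw [eq_inv_of_mul_eq_one_right h2]
        exact I.inv_mem (ha s) }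
  have hY : ∀ y : P, y ∈ Y ↔ ∀ s : P, y * s * y⁻¹ * s⁻¹ ∈ I := fun y => Iff.rfl
  have hZY : Subgroup.center P ≤ Y := by
    intro c hc'
    rw [hY]
    intro s
    have h1 : c * s * c⁻¹ * s⁻¹ = 1 := by
      have h2 := Subgroup.mem_center_iff.1 hc' s
      rw [← h2]
      group
    rw [h1]
    exact I.one_mem
  have hYn : Y.Normal := h.normal_of_center_le hna Y hZY
  have hYφ : ∀ y ∈ Y, φ y ∈ Y := by
    intro y hy
    rw [hY] at hy ⊢
    intro s
    have h1 := hy (φ.symm s)
    have h2 := h.center_fixed hna _ (hc y (φ.symm s))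
    rw [map_mul, map_mul, map_mul, map_inv, map_inv, MulEquiv.apply_symm_apply] at h2
    rw [h2]
    exact h1
  have hYtop : Y = ⊤ := by
    by_contra hne
    exact hg (h.le_center Y hYn hne hYφ ((hY g).2 (fun s => ⟨s, rfl⟩)))
  have hcomm : commutator P ≤ I := by
    rw [commutator_eq_closure, Subgroup.closure_le]
    rintro _ ⟨a, b, rfl⟩
    rw [commutatorElement_def]
    exact (hY a).1 (hYtop ▸ Subgroup.mem_top a) b
  exact (hI z).1 (hcomm (h.center_le_commutator hna hz))

/-- The centre has exponent `p`. -/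
theorem SchAut.center_pow (h : SchAut p q φ) (hna : ¬ ∀ a b : P, a * b = b * a) (z : P)
    (hz : z ∈ Subgroup.center P) : z ^ p = 1 := by
  obtain ⟨g, hg⟩ := exists_not_mem_center_of_not_comm hna
  obtain ⟨s, rfl⟩ := h.camina hna g hg z hz
  have h1 := comm_pow_left (a := g) (b := s) (Subgroup.mem_center_iff.1 hz g) p
  rw [← h1]
  have h2 := Subgroup.mem_center_iff.1 (h.pow_mem_center hna g) s
  rw [← h2]
  group

omit [Finite P] [Fact p.Prime] in
theorem mem_centralizer_singleton_iff' (g y : P) :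
    y ∈ Subgroup.centralizer ({g} : Set P) ↔ g * y = y * g := by
  rw [Subgroup.mem_centralizer_iff]
  constructor
  · intro hy
    exact hy g (Set.mem_singleton g)
  · intro hy x hx
    rw [Set.mem_singleton_iff] at hx
    subst hx
    exact hy

/-- The prime `q` is odd when `P` is not abelian. -/
theorem SchAut.q_ne_two (h : SchAut p q φ) (hna : ¬ ∀ a b : P, a * b = b * a) : q ≠ 2 := by
  intro hq2
  have hc := h.comm_mem_center hna
  have hφ2 : ∀ g : P, φ (φ g) = g := by
    intro g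
    have h0 := h.s3
    rw [hq2] at h0
    have h1 : (φ ^ 2) g = g := by rw [h0]; rfl
    rwa [pow_two, MulAut.mul_apply] at h1
  have hu : ∀ g : P, g * φ g ∈ Subgroup.center P := by
    intro g
    apply h.mem_center_of_fixed_mod hna
    rw [map_mul, hφ2]
    have h1 : (g * φ g)⁻¹ * (φ g * g) = (φ g)⁻¹ * g⁻¹ * (φ g)⁻¹⁻¹ * g⁻¹⁻¹ := by group
    rw [h1]
    exact hc _ _
  obtain ⟨g, hg⟩ := exists_not_mem_center_of_not_comm hna
  have hY : ∀ y : P, y ∈ Subgroup.centralizer ({g} : Set P) ↔ g * y = y * g :=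
    mem_centralizer_singleton_iff' g
  have hZY : Subgroup.center P ≤ Subgroup.centralizer ({g} : Set P) := by
    intro c hc'
    rw [hY]
    exact Subgroup.mem_center_iff.1 hc' g
  have hYn := h.normal_of_center_le hna _ hZY
  have hYφ : ∀ y ∈ Subgroup.centralizer ({g} : Set P), φ y ∈ Subgroup.centralizer ({g} : Set P) := by
    intro y hy
    rw [hY] at hy ⊢
    have h1 : φ g * φ y = φ y * φ g := by rw [← map_mul, ← map_mul, hy]
    have hu1 := Subgroup.mem_center_iff.1 (hu g) (φ y)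
    have h2 : φ y * g * φ g = g * φ y * φ g := by
      calc φ y * g * φ g = φ y * (g * φ g) := mul_assoc _ _ _
        _ = (g * φ g) * φ y := hu1
        _ = g * (φ g * φ y) := mul_assoc _ _ _
        _ = g * (φ y * φ g) := by rw [h1]
        _ = g * φ y * φ g := (mul_assoc _ _ _).symm
    exact (mul_right_cancel h2).symm
  have hYt : Subgroup.centralizer ({g} : Set P) ≠ ⊤ := by
    intro htop
    apply hg
    rw [Subgroup.mem_center_iff]
    intro x
    have h1 : x ∈ Subgroup.centralizer ({g} : Set P) := htop ▸ Subgroup.mem_top x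
    exact ((hY x).1 h1).symm
  exact hg (h.le_center _ hYn hYt hYφ ((hY g).2 rfl))

/-- `q` divides `|P : Z(P)| - 1`. -/
theorem SchAut.q_dvd_index_sub_one (h : SchAut p q φ) (hna : ¬ ∀ a b : P, a * b = b * a) :
    q ∣ (Subgroup.center P).index - 1 := by
  haveI : Fact q.Prime := ⟨h.hq⟩
  have hQ : IsPGroup q (Subgroup.zpowers φ) := by
    rintro ⟨x, hx⟩
    refine ⟨1, ?_⟩
    obtain ⟨k, rfl⟩ := Subgroup.mem_zpowers_iff.1 hx
    apply Subtype.ext
    rw [pow_one]
    show (φ ^ k) ^ q = 1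
    rw [← zpow_natCast, ← zpow_mul, mul_comm, zpow_mul, zpow_natCast, h.s3, one_zpow]
  have h1 := hQ.card_modEq_card_fixedPoints P
  have hfix : MulAction.fixedPoints (Subgroup.zpowers φ) P = (Subgroup.center P : Set P) := by
    ext g
    rw [MulAction.mem_fixedPoints]
    constructor
    · intro hg
      apply h.mem_center_of_fixed_mod hna
      have h2 : φ g = g := hg ⟨φ, Subgroup.mem_zpowers φ⟩
      rw [h2, inv_mul_cancel]
      exact Subgroup.one_mem _
    · intro hg x
      obtain ⟨x, hx⟩ := x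
      have h2 : φ ∈ MulAction.stabilizer (MulAut P) g := by
        rw [MulAction.mem_stabilizer_iff]
        exact h.center_fixed hna g hg
      have h3 : x ∈ MulAction.stabilizer (MulAut P) g := by
        have h4 : Subgroup.zpowers φ ≤ MulAction.stabilizer (MulAut P) g := by
          rw [Subgroup.zpowers_le]
          exact h2
        exact h4 hx
      exact MulAction.mem_stabilizer_iff.1 h3
  rw [hfix] at h1
  have h4 : Nat.card ↥(Subgroup.center P : Set P) = Nat.card ↥(Subgroup.center P) := rfl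
  rw [h4] at h1
  have h5 := Subgroup.card_mul_index (Subgroup.center P)
  have h6 : q ∣ Nat.card P - Nat.card (Subgroup.center P) := by
    have hle : Nat.card (Subgroup.center P) ≤ Nat.card P := Subgroup.card_le_card_group _
    exact (Nat.modEq_iff_dvd' hle).1 h1.symm
  have h7 : Nat.card P - Nat.card (Subgroup.center P) =
      Nat.card (Subgroup.center P) * ((Subgroup.center P).index - 1) := by
    rw [← h5, Nat.mul_sub, mul_one]
  rw [h7] at h6
  have hcop : q.Coprime (Nat.card (Subgroup.center P)) := by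
    obtain ⟨n, hn⟩ := IsPGroup.iff_card.1 (h.hP.to_subgroup (Subgroup.center P))
    rw [hn]
    exact Nat.Coprime.pow_right n ((Nat.coprime_primes h.hq (Fact.out : p.Prime)).2 h.hqp)
  exact hcop.dvd_of_dvd_mul_left h6

omit [Fact p.Prime] in
theorem index_center_le_of_twoGen (hp0 : 0 < p)
    (hpow : ∀ a : P, a ^ p ∈ Subgroup.center P) (htwo : TwoGenModCenter P) :
    (Subgroup.center P).index ≤ p * p := by
  obtain ⟨a, b, hab⟩ := htwo
  haveI : NeZero p := ⟨hp0.ne'⟩
  let f : Fin p × Fin p → P ⧸ Subgroup.center P := fun x =>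
    (QuotientGroup.mk (a ^ (x.1 : ℕ) * b ^ (x.2 : ℕ)) : P ⧸ Subgroup.center P)
  have hf : Function.Surjective f := by
    intro Q
    obtain ⟨g, rfl⟩ := QuotientGroup.mk_surjective Q
    obtain ⟨i, j, z, hz, hg⟩ := hab g
    refine ⟨(⟨i % p, Nat.mod_lt _ hp0⟩, ⟨j % p, Nat.mod_lt _ hp0⟩), ?_⟩
    show (QuotientGroup.mk (a ^ (i % p) * b ^ (j % p)) : P ⧸ Subgroup.center P) =
      QuotientGroup.mk g
    have ha : (QuotientGroup.mk a : P ⧸ Subgroup.center P) ^ p = 1 := by
      rw [← QuotientGroup.mk_pow]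
      exact (QuotientGroup.eq_one_iff _).2 (hpow a)
    have hb : (QuotientGroup.mk b : P ⧸ Subgroup.center P) ^ p = 1 := by
      rw [← QuotientGroup.mk_pow]
      exact (QuotientGroup.eq_one_iff _).2 (hpow b)
    rw [hg, QuotientGroup.mk_mul, QuotientGroup.mk_mul, QuotientGroup.mk_mul,
      QuotientGroup.mk_pow, QuotientGroup.mk_pow, QuotientGroup.mk_pow, QuotientGroup.mk_pow,
      (QuotientGroup.eq_one_iff z).2 hz, mul_one, ← pow_eq_pow_mod i ha, ← pow_eq_pow_mod j hb]
  have h1 := Nat.card_le_card_of_surjective f hf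
  rw [Nat.card_prod, Nat.card_fin] at h1
  exact h1

theorem SchAut.not_twoGen_of_three (h : SchAut p q φ) (hna : ¬ ∀ a b : P, a * b = b * a)
    (hp : p = 3) : ¬ TwoGenModCenter P := by
  intro htwo
  subst hp
  have hle := index_center_le_of_twoGen (p := 3) (by norm_num) (h.pow_mem_center hna) htwo
  obtain ⟨m, hm⟩ := h.hP.index (Subgroup.center P)
  have hq := h.q_dvd_index_sub_one hna
  rw [hm] at hle hq
  have hm2 : m ≤ 2 := by
    by_contra hcon
    push_neg at hcon
    have h1 : 3 ^ 3 ≤ 3 ^ m := Nat.pow_le_pow_right (by norm_num) hcon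
    omega
  have hq2 : q = 2 := by
    interval_cases m
    · exfalso
      rw [pow_zero, Subgroup.index_eq_one] at hm
      apply hna
      intro a b
      have h1 : b ∈ Subgroup.center P := hm ▸ Subgroup.mem_top b
      exact Subgroup.mem_center_iff.1 h1 a
    · exact (Nat.prime_dvd_prime_iff_eq h.hq Nat.prime_two).1 (by simpa using hq)
    · have h1 : q ∣ 2 ^ 3 := by simpa using hq
      exact (Nat.prime_dvd_prime_iff_eq h.hq Nat.prime_two).1 (h.hq.dvd_of_dvd_pow h1)
  exact h.q_ne_two hna hq2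

theorem SchAut.invol_central (h : SchAut p q φ) (hna : ¬ ∀ a b : P, a * b = b * a)
    (hp : p = 2) (htwo : TwoGenModCenter P) (g : P) (hg2 : g ^ 2 = 1) :
    g ∈ Subgroup.center P := by
  subst hp
  have hle := index_center_le_of_twoGen (p := 2) (by norm_num) (h.pow_mem_center hna) htwo
  obtain ⟨m, hm⟩ := h.hP.index (Subgroup.center P)
  have hq := h.q_dvd_index_sub_one hna
  rw [hm] at hle hq
  have hm2 : m ≤ 2 := by
    by_contra hcon
    push_neg at hcon
    have h1 : 2 ^ 3 ≤ 2 ^ m := Nat.pow_le_pow_right (by norm_num) hcon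
    omega
  have hq3 : q = 3 := by
    interval_cases m
    · exfalso
      rw [pow_zero, Subgroup.index_eq_one] at hm
      apply hna
      intro a b
      have h1 : b ∈ Subgroup.center P := hm ▸ Subgroup.mem_top b
      exact Subgroup.mem_center_iff.1 h1 a
    · exfalso
      have h1 : q ∣ 1 := by simpa using hq
      exact h.hq.one_lt.ne' (Nat.dvd_one.1 h1)
    · exact (Nat.prime_dvd_prime_iff_eq h.hq Nat.prime_three).1 (by simpa using hq)
  subst hq3
  have hc := h.comm_mem_center hna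
  obtain ⟨g₁, hg₁⟩ : ∃ g₁ : P, g₁ = φ g := ⟨_, rfl⟩
  obtain ⟨g₂, hg₂⟩ : ∃ g₂ : P, g₂ = φ g₁ := ⟨_, rfl⟩
  have hg₃ : φ g₂ = g := by
    have h1 : (φ ^ 3) g = g := by rw [h.s3]; rfl
    rw [pow_succ, pow_two, MulAut.mul_apply, MulAut.mul_apply, ← hg₁, ← hg₂] at h1
    exact h1
  have hw : g * g₁ * g₂ ∈ Subgroup.center P := by
    have h1 := h.norm_eq_one g
    have e0 : (φ ^ 0) g = g := by rw [pow_zero]; rfl
    have e1 : (φ ^ 1) g = g₁ := by rw [pow_one, hg₁]
    have e2 : (φ ^ 2) g = g₂ := by rw [pow_two, MulAut.mul_apply, ← hg₁, ← hg₂]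
    rw [Finset.prod_range_succ, Finset.prod_range_succ, Finset.prod_range_one, e0, e1, e2,
      ← map_mul, ← map_mul] at h1
    apply h.commutator_le_center hna
    rw [← Abelianization.ker_of]
    exact MonoidHom.mem_ker.2 h1
  have hw2 : (g * g₁ * g₂) ^ 2 = 1 := h.center_pow hna _ hw
  have hg1sq : g₁ ^ 2 = 1 := by rw [hg₁, ← map_pow, hg2, map_one]
  have hg2sq : g₂ ^ 2 = 1 := by rw [hg₂, ← map_pow, hg1sq, map_one]
  have hg2eq : g₂ = (g * g₁)⁻¹ * (g * g₁ * g₂) := by group
  have hcw : Commute (g * g₁)⁻¹ (g * g₁ * g₂) := (Subgroup.mem_center_iff.1 hw (g * g₁)⁻¹)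
  have hx2 : (g * g₁) ^ 2 = 1 := by
    have h1 : ((g * g₁)⁻¹ * (g * g₁ * g₂)) ^ 2 = 1 := by rw [← hg2eq]; exact hg2sq
    rw [hcw.mul_pow, hw2, mul_one, inv_pow, inv_eq_one] at h1
    exact h1
  have hginv : g⁻¹ = g := inv_eq_of_mul_eq_one_right (by rw [← pow_two]; exact hg2)
  have hg1inv : g₁⁻¹ = g₁ := inv_eq_of_mul_eq_one_right (by rw [← pow_two]; exact hg1sq)
  have hcomm : g * g₁ = g₁ * g := by
    have h1 : (g * g₁)⁻¹ = g * g₁ := inv_eq_of_mul_eq_one_right (by rw [← pow_two]; exact hx2)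
    rw [← h1, mul_inv_rev, hginv, hg1inv]
  have hcg2 : g * g₂ = g₂ * g := by
    have c1 : Commute g (g * g₁) := (Commute.refl g).mul_right hcomm
    have c2 : Commute g (g * g₁ * g₂) := (Subgroup.mem_center_iff.1 hw g)
    have c3 : Commute g ((g * g₁)⁻¹ * (g * g₁ * g₂)) := c1.inv_right.mul_right c2
    rw [← hg2eq] at c3
    exact c3
  set Y : Subgroup P := Subgroup.centralizer ({g} : Set P) ⊓ Subgroup.centralizer ({g₁} : Set P) ⊓
    Subgroup.centralizer ({g₂} : Set P) with hYdef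
  have hY : ∀ y : P, y ∈ Y ↔ (g * y = y * g ∧ g₁ * y = y * g₁) ∧ g₂ * y = y * g₂ := by
    intro y
    rw [hYdef, Subgroup.mem_inf, Subgroup.mem_inf, mem_centralizer_singleton_iff',
      mem_centralizer_singleton_iff', mem_centralizer_singleton_iff']
  have hZY : Subgroup.center P ≤ Y := by
    intro c hc'
    rw [hY]
    exact ⟨⟨Subgroup.mem_center_iff.1 hc' g, Subgroup.mem_center_iff.1 hc' g₁⟩,
      Subgroup.mem_center_iff.1 hc' g₂⟩
  have hYn := h.normal_of_center_le hna Y hZY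
  have hYφ : ∀ y ∈ Y, φ y ∈ Y := by
    intro y hy
    rw [hY] at hy ⊢
    obtain ⟨⟨hy0, hy1⟩, hy2⟩ := hy
    refine ⟨⟨?_, ?_⟩, ?_⟩
    · rw [← hg₃, ← map_mul, ← map_mul, hy2]
    · rw [hg₁, ← map_mul, ← map_mul, hy0]
    · rw [hg₂, ← map_mul, ← map_mul, hy1]
  have hgY : g ∈ Y := (hY g).2 ⟨⟨rfl, hcomm.symm⟩, hcg2.symm⟩
  by_cases hYt : Y = ⊤
  · rw [Subgroup.mem_center_iff]
    intro x
    have h1 : x ∈ Y := hYt ▸ Subgroup.mem_top x
    exact ((hY x).1 h1).1.1.symm
  · exact h.le_center Y hYn hYt hYφ hgY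

/-- **The normal Sylow subgroup of a Schmidt group is of Schmidt type** (abstract form). -/
theorem schmidtType_of_schAut (h : SchAut p q φ) : SchmidtType p P := by
  by_cases hab : ∀ a b : P, a * b = b * a
  · exact Or.inl hab
  · right
    exact ⟨h.comm_mem_center hab, h.pow_mem_center hab, h.camina hab, h.not_twoGen_of_three hab,
      h.invol_central hab⟩

end

end Cfsg.Agent.Lib.Helper97.PL
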