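import Mathlib
import Cfsg.Prelude.Def_SolvableStructure
import Cfsg.Agent.Lib.Helper97.SchmidtStruct
import Cfsg.Agent.Lib.Helper97.PL.SchP

/-!
# The normal Sylow subgroup of a minimal non-nilpotent group is of Schmidt type (helper97)
-/

set_option autoImplicit false

namespace Cfsg.Agent.Lib.Helper97.PL

open Cfsg

theorem nilpotent_of_commuting_sup {X : Type*} [Group X] (A B : Subgroup X)
    (hA : Group.IsNilpotent A) (hB : Group.IsNilpotent B)
    (hcomm : ∀ a ∈ A, ∀ b ∈ B, a * b = b * a) (htop : A ⊔ B = ⊤) : Group.IsNilpotent X := by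
  have hc : ∀ (m : A) (n : B), Commute (A.subtype m) (B.subtype n) :=
    fun a b => hcomm a a.2 b b.2
  have hf : Function.Surjective (MonoidHom.noncommCoprod A.subtype B.subtype hc) := by
    rw [← MonoidHom.range_eq_top, MonoidHom.noncommCoprod_range, Subgroup.range_subtype,
      Subgroup.range_subtype]
    exact htop
  exact Group.nilpotent_of_surjective _ hf

theorem eq_one_of_mem_zpowers_pow {X : Type*} [Group X] {x : X} {r : ℕ} (hr : r.Prime)
    (hx : ∃ n, orderOf x = r ^ n) (h : x ∈ Subgroup.zpowers (x ^ r)) : x = 1 := by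
  obtain ⟨k, hk⟩ := Subgroup.mem_zpowers_iff.1 h
  obtain ⟨n, hn⟩ := hx
  have h1 : x ^ ((r : ℤ) * k - 1) = 1 := by
    rw [zpow_sub, zpow_mul, zpow_natCast, hk, zpow_one, mul_inv_cancel]
  have h2 : (orderOf x : ℤ) ∣ (r : ℤ) * k - 1 := orderOf_dvd_iff_zpow_eq_one.2 h1
  rcases n with _ | n
  · rw [pow_zero] at hn
    exact orderOf_eq_one_iff.1 hn
  · exfalso
    have h3 : (r : ℤ) ∣ (r : ℤ) * k - 1 := by
      refine dvd_trans ?_ h2
      rw [hn]
      push_cast
      exact dvd_pow_self _ (Nat.succ_ne_zero n)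
    have h4 : (r : ℤ) ∣ 1 := by
      have h5 := dvd_sub (dvd_mul_right (r : ℤ) k) h3
      simpa using h5
    have h6 : r ∣ 1 := by exact_mod_cast h4
    exact hr.one_lt.ne' (Nat.dvd_one.1 h6)

/-- **The normal Sylow `p`-subgroup of a minimal non-nilpotent group is of Schmidt type.** -/
theorem schmidtType_of_minimalNonNilpotent {X : Type*} [Group X] [Finite X] (p : ℕ)
    [Fact p.Prime] (hX : Cfsg.IsMinimalNonNilpotent X) (P : Sylow p X)
    (hPn : (P : Subgroup X).Normal) :
    SchmidtType p ↥(P : Subgroup X) := by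
  obtain ⟨hnn, hprop⟩ := hX
  obtain ⟨r, t, hr, ht, hrt, C, N, hCc, hNn, hCN⟩ :=
    Cfsg.Agent.Lib.Helper97.schmidt_structure hnn hprop
  haveI := Fact.mk hr
  haveI := Fact.mk ht
  haveI := hCc
  obtain ⟨c₀, hc₀⟩ := IsCyclic.exists_generator (α := ↥(C : Subgroup X))
  have hcC : (c₀ : X) ∈ (C : Subgroup X) := c₀.2
  have hCz : ∀ a ∈ (C : Subgroup X), a ∈ Subgroup.zpowers (c₀ : X) := by
    intro a ha
    obtain ⟨i, hi⟩ := Subgroup.mem_zpowers_iff.1 (hc₀ ⟨a, ha⟩)
    refine Subgroup.mem_zpowers_iff.2 ⟨i, ?_⟩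
    have h1 := congrArg Subtype.val hi
    rw [Subgroup.coe_zpow] at h1
    exact h1
  by_cases hpt : p = t
  · subst hpt
    have hPN : P = N := by
      haveI := Sylow.unique_of_normal P hPn
      exact Subsingleton.elim _ _
    subst hPN
    haveI := hPn
    obtain ⟨c, hc⟩ : ∃ c : X, c = (c₀ : X) := ⟨_, rfl⟩
    rw [← hc] at hcC hCz
    have hzC : Subgroup.zpowers c ≤ (C : Subgroup X) := Subgroup.zpowers_le.2 hcC
    have hdisj : Disjoint (C : Subgroup X) (P : Subgroup X) :=
      IsPGroup.disjoint_of_ne r p hrt _ _ C.isPGroup' P.isPGroup'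
    have hord : ∀ a ∈ (C : Subgroup X), ∃ k, orderOf a = r ^ k := by
      intro a ha
      obtain ⟨k, hk⟩ := (IsPGroup.iff_orderOf.1 C.isPGroup') ⟨a, ha⟩
      exact ⟨k, by rw [← hk]; exact (Subgroup.orderOf_mk a ha).symm⟩
    have hordP : ∀ u ∈ (P : Subgroup X), ∃ k, orderOf u = p ^ k := by
      intro a ha
      obtain ⟨k, hk⟩ := (IsPGroup.iff_orderOf.1 P.isPGroup') ⟨a, ha⟩
      exact ⟨k, by rw [← hk]; exact (Subgroup.orderOf_mk a ha).symm⟩
    have hkey : ∀ K : Subgroup X, K ≠ ⊤ → ∀ a ∈ (C : Subgroup X), a ∈ K →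
        ∀ u ∈ (P : Subgroup X), u ∈ K → a * u = u * a := by
      intro K hK a haC haK u huP huK
      exact Cfsg.Agent.Lib.Helper97.commute_of_nilpotent_coprime (hprop K hK) hrt haK huK
        (hord a haC) (hordP u huP)
    obtain ⟨φ, hφ⟩ : ∃ φ : MulAut ↥(P : Subgroup X), φ = MulAut.conjNormal c := ⟨_, rfl⟩
    have hφapp : ∀ u : ↥(P : Subgroup X), ((φ u : ↥(P : Subgroup X)) : X) = c * u * c⁻¹ := by
      intro u
      rw [hφ]
      exact MulAut.conjNormal_apply c u
    have hs2 : φ ≠ 1 := by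
      intro h1
      apply hnn
      have hcu : ∀ u ∈ (P : Subgroup X), c * u = u * c := by
        intro u hu
        have h2 := hφapp ⟨u, hu⟩
        rw [h1] at h2
        have h3 : u = c * u * c⁻¹ := h2
        calc c * u = c * u * c⁻¹ * c := by group
          _ = u * c := by rw [← h3]
      apply nilpotent_of_commuting_sup (C : Subgroup X) (P : Subgroup X)
        (C.isPGroup'.isNilpotent) (P.isPGroup'.isNilpotent) _ hCN
      intro a ha u hu
      have h4 : Subgroup.zpowers c ≤ Subgroup.centralizer ({u} : Set X) := by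
        rw [Subgroup.zpowers_le, mem_centralizer_singleton_iff']
        exact (hcu u hu).symm
      exact ((mem_centralizer_singleton_iff' u a).1 (h4 (hCz a ha))).symm
    have hs3 : φ ^ r = 1 := by
      have hK : Subgroup.zpowers (c ^ r) ⊔ (P : Subgroup X) ≠ ⊤ := by
        intro htop
        have hc' : c ∈ Subgroup.zpowers (c ^ r) ⊔ (P : Subgroup X) := htop ▸ Subgroup.mem_top c
        obtain ⟨a, ha, u, hu, hau⟩ := Subgroup.mem_sup_of_normal_right.1 hc'
        have haC : a ∈ (C : Subgroup X) :=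
          (Subgroup.zpowers_le.2 (Subgroup.pow_mem _ hcC r)) ha
        have huC : u ∈ (C : Subgroup X) := by
          have h1 : u = a⁻¹ * c := by rw [← hau]; group
          rw [h1]
          exact Subgroup.mul_mem _ (Subgroup.inv_mem _ haC) hcC
        have hu1 : u = 1 := by
          have h1 := hdisj.le_bot (show u ∈ (C : Subgroup X) ⊓ (P : Subgroup X) from ⟨huC, hu⟩)
          exact Subgroup.mem_bot.1 h1
        rw [hu1, mul_one] at hau
        rw [hau] at ha
        have hc1 : c = 1 := eq_one_of_mem_zpowers_pow hr (hord c hcC) ha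
        apply hs2
        rw [hφ, hc1, map_one]
      apply MulEquiv.ext
      intro u
      apply Subtype.ext
      rw [hφ, ← map_pow, MulAut.conjNormal_apply, MulAut.one_apply]
      have h1 := hkey _ hK (c ^ r) (Subgroup.pow_mem _ hcC r)
        (Subgroup.mem_sup_left (Subgroup.mem_zpowers _)) u u.2 (Subgroup.mem_sup_right u.2)
      rw [h1]
      group
    have hs1 : ∀ Y : Subgroup ↥(P : Subgroup X), Y ≠ ⊤ → (∀ y ∈ Y, φ y ∈ Y) →
        ∀ y ∈ Y, φ y = y := by
      intro Y hYt hYφ y hy
      obtain ⟨Y', hY'⟩ : ∃ Y' : Subgroup X, Y' = Y.map (P : Subgroup X).subtype := ⟨_, rfl⟩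
      have hmemY' : ∀ u : ↥(P : Subgroup X), (u : X) ∈ Y' ↔ u ∈ Y := by
        intro u
        rw [hY']
        constructor
        · rintro ⟨v, hv, hvu⟩
          have h1 : v = u := Subtype.ext hvu
          exact h1 ▸ hv
        · intro hu
          exact ⟨u, hu, rfl⟩
      have hY'P : Y' ≤ (P : Subgroup X) := by
        rw [hY']
        rintro _ ⟨v, -, rfl⟩
        exact v.2
      have hK : Subgroup.zpowers c ⊔ Y' ≠ ⊤ := by
        intro htop
        have hcN : c ∈ Subgroup.normalizer (Y' : Set X) := by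
          apply Subgroup.mem_normalizer_fintype
          intro n hn
          have hnP : n ∈ (P : Subgroup X) := hY'P hn
          have h1 : (⟨n, hnP⟩ : ↥(P : Subgroup X)) ∈ Y := (hmemY' ⟨n, hnP⟩).1 hn
          have h2 := hYφ _ h1
          have h3 := (hmemY' _).2 h2
          rw [hφapp] at h3
          exact h3
        have hnorm : Subgroup.normalizer (Y' : Set X) = ⊤ := by
          rw [eq_top_iff, ← htop]
          exact sup_le (Subgroup.zpowers_le.2 hcN) Subgroup.le_normalizer
        haveI hY'n : Y'.Normal := Subgroup.normalizer_eq_top_iff.1 hnorm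
        apply hYt
        rw [eq_top_iff]
        intro u _
        have hu' : (u : X) ∈ Subgroup.zpowers c ⊔ Y' := htop ▸ Subgroup.mem_top _
        obtain ⟨a, ha, y', hy', hay⟩ := Subgroup.mem_sup_of_normal_right.1 hu'
        have haC : a ∈ (C : Subgroup X) := hzC ha
        have haP : a ∈ (P : Subgroup X) := by
          have h1 : a = u * y'⁻¹ := by rw [← hay]; group
          rw [h1]
          exact Subgroup.mul_mem _ u.2 (Subgroup.inv_mem _ (hY'P hy'))
        have ha1 : a = 1 := by
          have h1 := hdisj.le_bot (show a ∈ (C : Subgroup X) ⊓ (P : Subgroup X) from ⟨haC, haP⟩)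
          exact Subgroup.mem_bot.1 h1
        rw [ha1, one_mul] at hay
        rw [← hmemY', ← hay]
        exact hy'
      apply Subtype.ext
      rw [hφapp]
      have h1 := hkey _ hK c hcC (Subgroup.mem_sup_left (Subgroup.mem_zpowers c)) y y.2
        (Subgroup.mem_sup_right ((hmemY' y).2 hy))
      rw [h1]
      group
    exact schmidtType_of_schAut (φ := φ) (q := r) ⟨hr, hrt, P.isPGroup', hs1, hs2, hs3⟩
  · left
    have hCcomm : IsMulCommutative ↥(C : Subgroup X) := by
      rw [isMulCommutative_iff]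
      intro a b
      obtain ⟨i, rfl⟩ := Subgroup.mem_zpowers_iff.1 (hc₀ a)
      obtain ⟨j, rfl⟩ := Subgroup.mem_zpowers_iff.1 (hc₀ b)
      exact (Commute.zpow_zpow_self c₀ i j).eq
    have hcom : commutator X ≤ (N : Subgroup X) := by
      haveI := hNn
      refine Subgroup.Normal.commutator_le_of_self_sup_commutative_eq_top
        (H := (C : Subgroup X)) ?_ hCcomm
      rw [sup_comm]
      exact hCN
    have hdisj : Disjoint (P : Subgroup X) (N : Subgroup X) :=
      IsPGroup.disjoint_of_ne p t hpt _ _ P.isPGroup' N.isPGroup'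
    intro a b
    have h1 : (a : X) * b * (a : X)⁻¹ * (b : X)⁻¹ ∈ (N : Subgroup X) := by
      apply hcom
      rw [commutator_eq_closure]
      apply Subgroup.subset_closure
      exact ⟨a, b, by rw [commutatorElement_def]⟩
    have h2 : (a : X) * b * (a : X)⁻¹ * (b : X)⁻¹ ∈ (P : Subgroup X) :=
      Subgroup.mul_mem _ (Subgroup.mul_mem _ (Subgroup.mul_mem _ a.2 b.2)
        (Subgroup.inv_mem _ a.2)) (Subgroup.inv_mem _ b.2)
    have h3 : (a : X) * b * (a : X)⁻¹ * (b : X)⁻¹ = 1 := by
      have h4 := hdisj.le_bot (show _ ∈ (P : Subgroup X) ⊓ (N : Subgroup X) from ⟨h2, h1⟩)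
      exact Subgroup.mem_bot.1 h4
    apply Subtype.ext
    rw [Subgroup.coe_mul, Subgroup.coe_mul]
    have h4 : (a : X) * b = ((a : X) * b * (a : X)⁻¹ * (b : X)⁻¹) * (b * a) := by group
    rw [h4, h3, one_mul]

end Cfsg.Agent.Lib.Helper97.PL
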